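import Groth.Prelude.Def_HTop
import Mathlib.AlgebraicGeometry.ValuativeCriterion

/-!
# Lifting valuation rings: basic lemmas (HTop, seat 346)

* `IsExtVal` is closed under composition, contains the identity;
* `exists_extVal_of_specializes`: specializations over the generic/closed point of `Spec V` are realized by an
  extension of valuation rings;
* `HasValLift` for refinements, base change, composition (`bind`), open covers, universally closed surjective
  morphisms, flat surjective families;
* `exists_isStandardV_refines`: over an affine scheme, a finite family with quasi-compact members and the lifting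
  property is refined by a standard V covering indexed in universe `0`;
* `isVCover_of_forall_affineOpens`.
-/

set_option autoImplicit false
universe w w' u

open CategoryTheory CategoryTheory.Limits AlgebraicGeometry HTop

namespace K346.ValLift

/-- The closed point of `Spec V`. -/
noncomputable def cl (V : CommRingCat.{u}) [IsLocalRing V] : ↥(Spec V) := IsLocalRing.closedPoint V

/-- The generic point of `Spec V`. -/
noncomputable def gen (V : CommRingCat.{u}) [IsDomain V] : ↥(Spec V) := (⊥ : PrimeSpectrum V)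

theorem map_cl_iff {V W : CommRingCat.{u}} [IsLocalRing V] [IsLocalRing W] (φ : V ⟶ W) :
    Spec.map φ (cl W) = cl V ↔ IsLocalHom φ.hom := by
  have h1 : (IsLocalRing.maximalIdeal W).comap φ.hom = IsLocalRing.maximalIdeal V ↔ IsLocalHom φ.hom :=
    (IsLocalRing.local_hom_TFAE φ.hom).out 4 0
  rw [← h1]
  exact ⟨fun h ↦ congrArg PrimeSpectrum.asIdeal h, fun h ↦ PrimeSpectrum.ext h⟩

theorem map_gen_iff {V W : CommRingCat.{u}} [IsDomain V] [IsDomain W] (φ : V ⟶ W) :
    Spec.map φ (gen W) = gen V ↔ Function.Injective φ.hom := by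
  rw [RingHom.injective_iff_ker_eq_bot, RingHom.ker_eq_comap_bot]
  exact ⟨fun h ↦ congrArg PrimeSpectrum.asIdeal h, fun h ↦ PrimeSpectrum.ext h⟩

theorem gen_specializes (V : CommRingCat.{u}) [IsDomain V] (x : ↥(Spec V)) : gen V ⤳ x :=
  (PrimeSpectrum.le_iff_specializes (⊥ : PrimeSpectrum V) x).1 bot_le

theorem specializes_cl (V : CommRingCat.{u}) [IsLocalRing V] (x : ↥(Spec V)) : x ⤳ cl V :=
  IsLocalRing.specializes_closedPoint (R := V) x

theorem isExtVal_iff {V W : CommRingCat.{u}} [IsDomain V] [ValuationRing V] [IsDomain W] [ValuationRing W]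
    (φ : V ⟶ W) : IsExtVal V W φ ↔ Spec.map φ (gen W) = gen V ∧ Spec.map φ (cl W) = cl V := by
  rw [map_gen_iff, map_cl_iff, IsExtVal]

theorem isExtVal_id (V : CommRingCat.{u}) [IsDomain V] [ValuationRing V] : IsExtVal V V (𝟙 V) :=
  ⟨fun _ _ h ↦ h, ⟨fun _ h ↦ h⟩⟩

theorem isExtVal_comp {V W U : CommRingCat.{u}} [IsDomain V] [ValuationRing V] [IsDomain W] [ValuationRing W]
    [IsDomain U] [ValuationRing U] {φ : V ⟶ W} {ψ : W ⟶ U} (hφ : IsExtVal V W φ) (hψ : IsExtVal W U ψ) :
    IsExtVal V U (φ ≫ ψ) := by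
  rw [isExtVal_iff] at hφ hψ ⊢
  rw [Spec.map_comp, Scheme.Hom.comp_apply, Scheme.Hom.comp_apply, hψ.1, hψ.2]
  exact hφ

open IsLocalRing in
/-- A specialization `y ⤳ x` in a scheme `Y` over `Spec V`, `V` a valuation ring, with `y` over the generic point and
`x` over the closed point, is realized by a morphism `Spec W ⟶ Y` with `V → W` an extension of valuation rings. -/
theorem exists_extVal_of_specializes (V : CommRingCat.{u}) [IsDomain V] [ValuationRing V] {Y : Scheme.{u}}
    (f : Y ⟶ Spec V) {y x : Y} (h : y ⤳ x) (hy : f y = gen V) (hx : f x = cl V) :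
    ∃ (W : CommRingCat.{u}) (_ : IsDomain W) (_ : ValuationRing W) (φ : V ⟶ W), IsExtVal V W φ ∧
      ∃ g' : Spec W ⟶ Y, g' ≫ f = Spec.map φ ∧ g' (cl W) = x ∧ g' (gen W) = y := by
  let σ : Y.presheaf.stalk x ⟶ Y.residueField y :=
    Y.presheaf.stalkSpecializes h ≫ Y.residue y
  obtain ⟨A, hA, hA_local⟩ := exists_factor_valuationRing σ.hom
  let W : CommRingCat.{u} := .of A
  let τ : Y.presheaf.stalk x ⟶ W := CommRingCat.ofHom (σ.hom.codRestrict _ hA)
  have hτ : IsLocalHom τ.hom := hA_local
  let ι : W ⟶ Y.residueField y := CommRingCat.ofHom (algebraMap A (Y.residueField y))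
  have hι : Function.Injective ι.hom := Subtype.val_injective
  let g' : Spec W ⟶ Y := Spec.map τ ≫ Y.fromSpecStalk x
  have hfac : Y.fromSpecResidueField y = Spec.map ι ≫ g' := by
    rw [Scheme.fromSpecResidueField, ← Scheme.SpecMap_stalkSpecializes_fromSpecStalk h]
    simp_rw [g', ← Category.assoc, ← Spec.map_comp]
    rfl
  have hcl : g' (cl W) = x := by
    rw [Scheme.Hom.comp_apply, (map_cl_iff τ).2 hτ]
    exact Scheme.fromSpecStalk_closedPoint
  have hgen : g' (gen W) = y := by
    rw [← (map_gen_iff ι).2 hι, ← Scheme.Hom.comp_apply, ← hfac]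
    exact Scheme.fromSpecResidueField_apply y _
  obtain ⟨φ, hφ⟩ := Spec.map_surjective (g' ≫ f)
  refine ⟨W, inferInstanceAs (IsDomain A), inferInstanceAs (ValuationRing A), φ, ?_, g', hφ.symm,
    hcl, hgen⟩
  rw [isExtVal_iff, hφ, Scheme.Hom.comp_apply g' f, Scheme.Hom.comp_apply g' f, hcl, hgen]
  exact ⟨hy, hx⟩

variable {T : Scheme.{u}}

/-- The lifting property passes from a refining family to the refined one. -/
theorem HasValLift.of_refinesOver {F : PreZeroHypercover.{w'} T} {E : PreZeroHypercover.{w} T}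
    (hF : HasValLift F) (h : RefinesOver (𝟙 T) F E) : HasValLift E := by
  intro V _ _ g
  obtain ⟨W, _, _, φ, hφ, j, g', hg'⟩ := hF V g
  obtain ⟨i, k, hk⟩ := h j
  exact ⟨W, inferInstance, inferInstance, φ, hφ, i, g' ≫ k, by
    rw [Category.assoc, hk, Category.comp_id, hg']⟩

/-- The lifting property is stable under base change. -/
theorem HasValLift.pullback₁ {T' : Scheme.{u}} (g : T' ⟶ T) {E : PreZeroHypercover.{w} T}
    (hE : HasValLift E) : HasValLift (E.pullback₁ g) := by
  intro V _ _ h
  obtain ⟨W, _, _, φ, hφ, j, g', hg'⟩ := hE V (h ≫ g)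
  refine ⟨W, inferInstance, inferInstance, φ, hφ, j, pullback.lift (Spec.map φ ≫ h) g' ?_, ?_⟩
  · rw [Category.assoc, hg']
  · exact pullback.lift_fst _ _ _

/-- Base change for the lifting property, with fibre products given by squares. -/
theorem HasValLift.of_isPullback {T' : Scheme.{u}} (g : T' ⟶ T) {E : PreZeroHypercover.{w} T}
    (hE : HasValLift E) (Y : E.I₀ → Scheme.{u}) (p : ∀ i, Y i ⟶ T') (q : ∀ i, Y i ⟶ E.X i)
    (h : ∀ i, IsPullback (q i) (p i) (E.f i) g) : HasValLift (T := T') ⟨E.I₀, Y, p⟩ := by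
  intro V _ _ k
  obtain ⟨W, _, _, φ, hφ, j, g', hg'⟩ := hE V (k ≫ g)
  refine ⟨W, inferInstance, inferInstance, φ, hφ, j, (h j).lift g' (Spec.map φ ≫ k) ?_, ?_⟩
  · rw [Category.assoc, hg']
  · exact (h j).lift_snd _ _ _

/-- The lifting property for a composite family. -/
theorem HasValLift.bind {E : PreZeroHypercover.{w} T} (hE : HasValLift E)
    (F : ∀ i, PreZeroHypercover.{w'} (E.X i)) (hF : ∀ i, HasValLift (F i)) : HasValLift (E.bind F) := by
  intro V _ _ g
  obtain ⟨W, _, _, φ, hφ, j, g', hg'⟩ := hE V g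
  obtain ⟨U, _, _, ψ, hψ, k, g'', hg''⟩ := hF j W g'
  refine ⟨U, inferInstance, inferInstance, φ ≫ ψ, isExtVal_comp hφ hψ, ⟨j, k⟩, g'', ?_⟩
  rw [Spec.map_comp, Category.assoc, ← hg', ← Category.assoc, ← hg'', Category.assoc]
  rfl

/-- A morphism from the spectrum of a local ring whose closed point lands in the image of an open immersion lifts. -/
theorem exists_lift_of_cl_mem {V : CommRingCat.{u}} [IsLocalRing V] (g : Spec V ⟶ T) {U : Scheme.{u}}
    (j : U ⟶ T) [IsOpenImmersion j] (h : g (cl V) ∈ Set.range j) : ∃ g' : Spec V ⟶ U, g' ≫ j = g := by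
  refine ⟨IsOpenImmersion.lift j g ?_, IsOpenImmersion.lift_fac _ _ _⟩
  rintro _ ⟨x, rfl⟩
  have h1 : g x ⤳ g (cl V) := (specializes_cl V x).map g.continuous
  exact h1.mem_open j.isOpenEmbedding.isOpen_range h

/-- A jointly surjective family of open immersions has the lifting property. -/
theorem hasValLift_of_isOpenImmersion (E : PreZeroHypercover.{w} T)
    (hE : ∀ x : T, ∃ i, IsOpenImmersion (E.f i) ∧ x ∈ Set.range (E.f i)) : HasValLift E := by
  intro V _ _ g
  obtain ⟨i, _, hi⟩ := hE (g (cl V))
  obtain ⟨g', hg'⟩ := exists_lift_of_cl_mem g (E.f i) hi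
  exact ⟨V, inferInstance, inferInstance, 𝟙 V, isExtVal_id V, i, g', by
    rw [hg', Spec.map_id, Category.id_comp]⟩

/-- If the fibre product with `Spec V` of one member contains a specialization lying over generic point and closed point
of `Spec V` then `Spec V` lifts after an extension. -/
theorem exists_lift_of_specializes (E : PreZeroHypercover.{w} T) (V : CommRingCat.{u}) [IsDomain V]
    [ValuationRing V] (g : Spec V ⟶ T) (i : E.I₀) {y x : ↥(pullback g (E.f i))} (h : y ⤳ x)
    (hy : pullback.fst g (E.f i) y = gen V) (hx : pullback.fst g (E.f i) x = cl V) :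
    ∃ (W : CommRingCat.{u}) (_ : IsDomain W) (_ : ValuationRing W) (φ : V ⟶ W),
      IsExtVal V W φ ∧ ∃ (j : E.I₀) (g' : Spec W ⟶ E.X j), g' ≫ E.f j = Spec.map φ ≫ g := by
  obtain ⟨W, _, _, φ, hφ, g', hg', -, -⟩ := exists_extVal_of_specializes V (pullback.fst g (E.f i)) h hy hx
  exact ⟨W, inferInstance, inferInstance, φ, hφ, i, g' ≫ pullback.snd _ _, by
    rw [Category.assoc, ← pullback.condition, ← Category.assoc, hg']⟩

/-- A flat jointly surjective family has the lifting property. -/
theorem hasValLift_of_flat (E : PreZeroHypercover.{w} T) (hfl : ∀ i, Flat (E.f i))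
    (hE : ∀ x : T, ∃ (i : E.I₀) (y : E.X i), E.f i y = x) : HasValLift E := by
  intro V _ _ g
  obtain ⟨i, y, hy⟩ := hE (g (cl V))
  obtain ⟨z, hz, -⟩ := Scheme.Pullback.exists_preimage_pullback (f := g) (g := E.f i) (cl V) y hy.symm
  have := hfl i
  have h0 : gen V ⤳ pullback.fst g (E.f i) z := by rw [hz]; exact gen_specializes V _
  obtain ⟨z', hz', hzz'⟩ := Flat.generalizingMap (pullback.fst g (E.f i)) h0
  exact exists_lift_of_specializes E V g i hz' hzz' hz

/-- A universally closed surjective morphism has the lifting property. -/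
theorem hasValLift_of_universallyClosed {Y : Scheme.{u}} (f : Y ⟶ T) [UniversallyClosed f] [Surjective f] :
    HasValLift (PreZeroHypercover.singleton.{w} f) := by
  intro V _ _ g
  obtain ⟨z, hz⟩ := (pullback.fst g f).surjective (gen V)
  have hcl : IsClosedMap (pullback.fst g f) := (pullback.fst g f).isClosedMap
  have h0 : pullback.fst g f z ⤳ cl V := by rw [hz]; exact gen_specializes V _
  obtain ⟨z', hz', hzz'⟩ := hcl.specializingMap h0
  exact exists_lift_of_specializes (PreZeroHypercover.singleton.{w} f) V g PUnit.unit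
    (y := z) (x := z') hz' hz hzz'

/-- Jointly surjective images from the lifting property. -/
theorem HasValLift.exists_preimage {E : PreZeroHypercover.{w} T} (hE : HasValLift E) (x : T) :
    ∃ (i : E.I₀) (y : E.X i), E.f i y = x := by
  obtain ⟨W, _, _, φ, hφ, j, g', hg'⟩ := hE (T.residueField x) (T.fromSpecResidueField x)
  refine ⟨j, g' (cl W), ?_⟩
  rw [← Scheme.Hom.comp_apply, hg', Scheme.Hom.comp_apply]
  exact Scheme.fromSpecResidueField_apply x _

end K346.ValLift
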