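import Groth.Agent.HTop.K346.VStable

/-!
# Proper surjective morphisms are ph coverings; standard ph coverings are standard V coverings (seat 346)
-/

set_option autoImplicit false
universe w w' u

open CategoryTheory CategoryTheory.Limits AlgebraicGeometry HTop

namespace K346.PhBasic

open K346.ValLift K346.VCover K346.VStable

variable {T : Scheme.{u}}

/-- The family of restrictions of `f : Y ⟶ T` to opens `a k` of `Y`. -/
noncomputable def openPieces {Y : Scheme.{u}} (f : Y ⟶ T) {J : Type w} (a : J → Y.Opens) :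
    PreZeroHypercover.{w} T where
  I₀ := J
  X k := a k
  f k := (a k).ι ≫ f

theorem isStandardPh_openPieces [IsAffine T] {Y : Scheme.{u}} (f : Y ⟶ T) [IsProper f] [Surjective f]
    {J : Type w} [Finite J] (a : J → Y.Opens) (ha : ∀ k, IsAffineOpen (a k)) (hcov : ∀ y : Y, ∃ k, y ∈ a k) :
    IsStandardPh (openPieces f a) where
  isAffine := inferInstance
  finite_index := inferInstanceAs (Finite J)
  isAffine_obj k := ha k
  exists_proper := ⟨Y, f, fun k ↦ (a k).ι, inferInstance, inferInstance,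
    fun k ↦ inferInstanceAs (IsOpenImmersion (a k).ι), fun _ ↦ rfl, fun y ↦ by
      obtain ⟨k, hk⟩ := hcov y
      exact ⟨k, ⟨⟨y, hk⟩, rfl⟩⟩⟩

/-- A quasi-compact scheme is covered by finitely many affine opens. -/
theorem exists_fin_affineOpen_cover (Y : Scheme.{u}) [CompactSpace Y] :
    ∃ (m : ℕ) (a : Fin m → Y.Opens), (∀ k, IsAffineOpen (a k)) ∧ ∀ y : Y, ∃ k, y ∈ a k := by
  obtain ⟨m, a, h1, h2⟩ := exists_fin_affineOpens (I := Unit) (fun _ ↦ Y)
  refine ⟨m, fun k ↦ (a k).2, h1, fun y ↦ ?_⟩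
  obtain ⟨k, U, hk, hy⟩ := h2 () y
  exact ⟨k, by simpa only [hk] using hy⟩

/-- Over an affine scheme, a proper surjective morphism is refined by a standard ph covering. -/
theorem exists_isStandardPh_of_proper [IsAffine T] {Y : Scheme.{u}} (f : Y ⟶ T) [IsProper f] [Surjective f] :
    ∃ (m : ℕ) (a : Fin m → Y.Opens), (∀ k, IsAffineOpen (a k)) ∧ (∀ y : Y, ∃ k, y ∈ a k) ∧
      IsStandardPh (openPieces f a) := by
  have : CompactSpace Y := QuasiCompact.compactSpace_of_compactSpace f
  obtain ⟨m, a, h1, h2⟩ := exists_fin_affineOpen_cover Y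
  exact ⟨m, a, h1, h2, isStandardPh_openPieces f a h1 h2⟩

/-- A proper surjective morphism is a ph covering. -/
theorem isPhCover_singleton {Y : Scheme.{u}} (f : Y ⟶ T) [IsProper f] [Surjective f] :
    IsPhCover (PreZeroHypercover.singleton.{w} f) := by
  refine ⟨fun _ ↦ inferInstanceAs (LocallyOfFiniteType f), fun U ↦ ?_⟩
  have : IsAffine ((U : T.Opens) : Scheme.{u}) := U.2
  obtain ⟨m, a, -, -, h⟩ := exists_isStandardPh_of_proper (pullback.fst (U : T.Opens).ι f)
  refine ⟨_, h, fun k ↦ ⟨PUnit.unit, (a k).ι ≫ pullback.snd (U : T.Opens).ι f, ?_⟩⟩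
  change ((a k).ι ≫ pullback.snd (U : T.Opens).ι f) ≫ f =
    ((a k).ι ≫ pullback.fst (U : T.Opens).ι f) ≫ (U : T.Opens).ι
  rw [Category.assoc, ← pullback.condition, Category.assoc]

/-- A standard ph covering is a standard V covering. -/
theorem isStandardV_of_isStandardPh (E : PreZeroHypercover.{w} T) (hE : IsStandardPh E) : IsStandardV E := by
  refine ⟨hE.isAffine, hE.finite_index, hE.isAffine_obj, ?_⟩
  obtain ⟨U, f, ι, _, _, hι, hf, hcov⟩ := hE.exists_proper
  intro V _ _ g
  obtain ⟨W, _, _, φ, hφ, k, (g' : Spec W ⟶ U), (hg' : g' ≫ f = Spec.map φ ≫ g)⟩ :=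
    hasValLift_of_universallyClosed.{0} f V g
  obtain ⟨j, hj⟩ := hcov (g' (cl W))
  have := hι j
  obtain ⟨g'', hg''⟩ := exists_lift_of_cl_mem g' (ι j) hj
  exact ⟨W, inferInstance, inferInstance, φ, hφ, j, g'', by rw [← hf, ← Category.assoc, hg'', hg']⟩

/-- A ph covering is a V covering. -/
theorem isVCover_of_isPhCover (E : PreZeroHypercover.{w} T) (hE : IsPhCover E) : IsVCover E := by
  intro U
  obtain ⟨F, hF, hFE⟩ := hE.2 U
  exact ⟨F, isStandardV_of_isStandardPh F hF, hFE⟩

/-- A proper surjective morphism is a V covering. -/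
theorem isVCover_singleton {Y : Scheme.{u}} (f : Y ⟶ T) [IsProper f] [Surjective f] :
    IsVCover (PreZeroHypercover.singleton.{w} f) :=
  isVCover_of_isPhCover _ (isPhCover_singleton f)

/-- A proper surjective morphism locally of finite presentation is an h covering. -/
theorem isHCover_singleton {Y : Scheme.{u}} (f : Y ⟶ T) [IsProper f] [Surjective f]
    [LocallyOfFinitePresentation f] : IsHCover (PreZeroHypercover.singleton.{w} f) :=
  ⟨fun _ ↦ inferInstanceAs (LocallyOfFinitePresentation f), isVCover_singleton f⟩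

end K346.PhBasic
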