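import Groth.Agent.HTop.K346.ValLift

/-!
# Standard V coverings refining families with quasi-compact members; criteria for V / h coverings (seat 346)
-/

set_option autoImplicit false
universe w w' w'' u

open CategoryTheory CategoryTheory.Limits AlgebraicGeometry HTop

namespace K346.VCover

open K346.ValLift

variable {T : Scheme.{u}}

/-- Finitely many affine opens covering the (finitely many, quasi-compact) members of a family. -/
theorem exists_fin_affineOpens {I : Type w} [Finite I] (X : I → Scheme.{u}) [∀ i, CompactSpace (X i)] :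
    ∃ (m : ℕ) (a : Fin m → Σ i : I, (X i).Opens), (∀ k, IsAffineOpen (a k).2) ∧
      ∀ (i : I) (x : X i), ∃ (k : Fin m) (U : (X i).Opens), a k = ⟨i, U⟩ ∧ x ∈ U := by
  have h1 : ∀ i, ∃ s : Set (X i).affineOpens, s.Finite ∧ (⊤ : (X i).Opens) = ⨆ U ∈ s, (U : (X i).Opens) :=
    fun i ↦ (isCompact_iff_finite_and_eq_biUnion_affineOpens (U := (⊤ : (X i).Opens))).1
      (by simpa using (isCompact_univ : IsCompact (Set.univ : Set (X i))))
  choose s hs hsup using h1
  have (i : I) : Finite (s i) := (hs i).to_subtype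
  obtain ⟨m, ⟨e⟩⟩ := Finite.exists_equiv_fin (Σ i : I, s i)
  refine ⟨m, fun k ↦ ⟨(e.symm k).1, ((e.symm k).2 : (X (e.symm k).1).affineOpens)⟩, fun k ↦
    ((e.symm k).2 : (X (e.symm k).1).affineOpens).2, fun i x ↦ ?_⟩
  have hx : x ∈ (⊤ : (X i).Opens) := trivial
  rw [hsup i] at hx
  simp only [TopologicalSpace.Opens.mem_iSup] at hx
  obtain ⟨U, hU, hxU⟩ := hx
  exact ⟨e ⟨i, U, hU⟩, U, congrArg (fun q : Σ i : I, s i ↦
    (⟨q.1, (q.2 : (X q.1).affineOpens)⟩ : Σ i : I, (X i).Opens)) (e.symm_apply_apply ⟨i, U, hU⟩), hxU⟩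

/-- The family of composites of affine open pieces of the members of `E`. -/
noncomputable def pieces (E : PreZeroHypercover.{w} T) {J : Type w'} (a : J → Σ i : E.I₀, (E.X i).Opens) :
    PreZeroHypercover.{w'} T where
  I₀ := J
  X k := (a k).2
  f k := (a k).2.ι ≫ E.f (a k).1

theorem pieces_f_of_eq (E : PreZeroHypercover.{w} T) {J : Type w'} (a : J → Σ i : E.I₀, (E.X i).Opens)
    {k : J} {i : E.I₀} {U : (E.X i).Opens} (h : a k = ⟨i, U⟩) :
    ∃ e : (U : Scheme.{u}) ≅ (pieces E a).X k, e.hom ≫ (pieces E a).f k = U.ι ≫ E.f i := by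
  have key : ∀ (p : Σ i : E.I₀, (E.X i).Opens), p = ⟨i, U⟩ →
      ∃ e : (U : Scheme.{u}) ≅ (p.2 : Scheme.{u}), e.hom ≫ (p.2.ι ≫ E.f p.1) = U.ι ≫ E.f i := by
    rintro p rfl
    exact ⟨Iso.refl _, Category.id_comp _⟩
  exact key _ h

theorem refinesOver_pieces (E : PreZeroHypercover.{w} T) {J : Type w'} (a : J → Σ i : E.I₀, (E.X i).Opens) :
    RefinesOver (𝟙 T) (pieces E a) E :=
  fun k ↦ ⟨(a k).1, (a k).2.ι, by rw [Category.comp_id]; rfl⟩

theorem hasValLift_pieces (E : PreZeroHypercover.{w} T) (hE : HasValLift E) {J : Type w'}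
    (a : J → Σ i : E.I₀, (E.X i).Opens)
    (ha : ∀ (i : E.I₀) (x : E.X i), ∃ (k : J) (U : (E.X i).Opens), a k = ⟨i, U⟩ ∧ x ∈ U) :
    HasValLift (pieces E a) := by
  intro V _ _ g
  obtain ⟨W, _, _, φ, hφ, i, g', hg'⟩ := hE V g
  obtain ⟨k, U, hk, hU⟩ := ha i (g' (cl W))
  obtain ⟨g'', hg''⟩ := exists_lift_of_cl_mem g' U.ι (by rwa [Scheme.Opens.range_ι])
  obtain ⟨e, he⟩ := pieces_f_of_eq E a hk
  exact ⟨W, inferInstance, inferInstance, φ, hφ, k, g'' ≫ e.hom, by
    rw [Category.assoc, he, ← Category.assoc, hg'', hg']⟩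

/-- Over an affine scheme, a finite family with quasi-compact members and the lifting property is refined by a standard
V covering whose members are affine opens of the members of the family. -/
theorem exists_isStandardV_pieces [IsAffine T] (E : PreZeroHypercover.{w} T) [Finite E.I₀]
    [∀ i, CompactSpace (E.X i)] (hE : HasValLift E) :
    ∃ (m : ℕ) (a : Fin m → Σ i : E.I₀, (E.X i).Opens), (∀ k, IsAffineOpen (a k).2) ∧
      (∀ (i : E.I₀) (x : E.X i), ∃ (k : Fin m) (U : (E.X i).Opens), a k = ⟨i, U⟩ ∧ x ∈ U) ∧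
      IsStandardV (pieces E a) := by
  obtain ⟨m, a, h1, h2⟩ := exists_fin_affineOpens E.X
  exact ⟨m, a, h1, h2, inferInstance, inferInstanceAs (Finite (Fin m)), fun k ↦ h1 k,
    hasValLift_pieces E hE a h2⟩

theorem exists_isStandardV_refines [IsAffine T] (E : PreZeroHypercover.{w} T) [Finite E.I₀]
    [∀ i, CompactSpace (E.X i)] (hE : HasValLift E) :
    ∃ F : PreZeroHypercover.{0} T, IsStandardV F ∧ RefinesOver (𝟙 T) F E := by
  obtain ⟨m, a, -, -, h⟩ := exists_isStandardV_pieces E hE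
  exact ⟨_, h, refinesOver_pieces E a⟩

theorem RefinesOver.trans {U S : Scheme.{u}} {h : S ⟶ U} {g : U ⟶ T} {G : PreZeroHypercover.{w''} S}
    {F : PreZeroHypercover.{w'} U} {E : PreZeroHypercover.{w} T}
    (hG : RefinesOver h G F) (hF : RefinesOver g F E) : RefinesOver (h ≫ g) G E := by
  intro j
  obtain ⟨i, k, hk⟩ := hG j
  obtain ⟨i', k', hk'⟩ := hF i
  exact ⟨i', k ≫ k', by rw [Category.assoc, hk', ← Category.assoc, hk, Category.assoc]⟩

/-- A criterion for V coverings: over each affine open there is a finite family with quasi-compact members, the lifting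
property, refining the base change of the given family. -/
theorem isVCover_of_forall_affineOpens (E : PreZeroHypercover.{w} T)
    (h : ∀ U : T.affineOpens, ∃ F : PreZeroHypercover.{w'} ((U : T.Opens) : Scheme.{u}),
      Finite F.I₀ ∧ (∀ i, CompactSpace (F.X i)) ∧ HasValLift F ∧ RefinesOver (U : T.Opens).ι F E) :
    IsVCover E := by
  intro U
  obtain ⟨F, _, _, h3, h4⟩ := h U
  have : IsAffine ((U : T.Opens) : Scheme.{u}) := U.2
  obtain ⟨m, a, -, -, hG⟩ := exists_isStandardV_pieces F h3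
  refine ⟨_, hG, fun k ↦ ?_⟩
  obtain ⟨i', k', hk'⟩ := h4 (a k).1
  refine ⟨i', (a k).2.ι ≫ k', ?_⟩
  exact (Category.assoc _ _ _).trans ((congrArg ((a k).2.ι ≫ ·) hk').trans (Category.assoc _ _ _).symm)

/-- Over an affine scheme, a family is a V covering if and only if it is refined by a standard V covering. -/
theorem isVCover_iff_of_isAffine [IsAffine T] (E : PreZeroHypercover.{w} T) :
    IsVCover E ↔ ∃ F : PreZeroHypercover.{0} T, IsStandardV F ∧ RefinesOver (𝟙 T) F E := by
  constructor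
  · intro h
    obtain ⟨F, hF, hFE⟩ := h ⟨⊤, isAffineOpen_top T⟩
    have hiso : IsIso (Scheme.Opens.ι (⊤ : T.Opens)) := inferInstanceAs (IsIso T.topIso.hom)
    refine ⟨F.pushforward (Scheme.Opens.ι (⊤ : T.Opens)),
      ⟨inferInstance, hF.finite_index, hF.isAffine_obj, ?_⟩, fun j ↦ ?_⟩
    · intro V _ _ g
      obtain ⟨W, _, _, φ, hφ, i, g', hg'⟩ := hF.lift V (g ≫ inv (Scheme.Opens.ι (⊤ : T.Opens)))
      refine ⟨W, inferInstance, inferInstance, φ, hφ, i, g', ?_⟩
      change g' ≫ F.f i ≫ (Scheme.Opens.ι (⊤ : T.Opens)) = _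
      rw [← Category.assoc, hg', Category.assoc, Category.assoc, IsIso.inv_hom_id, Category.comp_id]
    · obtain ⟨i, k, hk⟩ := hFE j
      exact ⟨i, k, hk.trans (Category.comp_id _).symm⟩
  · rintro ⟨F, hF, hFE⟩
    refine isVCover_of_forall_affineOpens.{w, 0} E fun U ↦ ?_
    have := hF.isAffine_obj
    have : IsAffine ((U : T.Opens) : Scheme.{u}) := U.2
    have := hF.finite_index
    refine ⟨F.pullback₁ (U : T.Opens).ι, inferInstanceAs (Finite F.I₀), fun i ↦ ?_,
      HasValLift.pullback₁ _ hF.lift, fun j ↦ ?_⟩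
    · change CompactSpace ↥(pullback (U : T.Opens).ι (F.f i))
      have : IsAffine (F.X i) := hF.isAffine_obj i
      have : QuasiCompact (F.f i) := inferInstance
      exact QuasiCompact.compactSpace_of_compactSpace (pullback.fst (U : T.Opens).ι (F.f i))
    · obtain ⟨i, k, hk⟩ := hFE j
      refine ⟨i, pullback.snd (U : T.Opens).ι (F.f j) ≫ k, ?_⟩
      refine (Category.assoc _ _ _).trans ((congrArg (pullback.snd (U : T.Opens).ι (F.f j) ≫ ·) hk).trans ?_)
      rw [Category.comp_id]
      exact pullback.condition.symm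

/-- A finite family of quasi-compact morphisms with the lifting property is a V covering. -/
theorem isVCover_of_hasValLift (E : PreZeroHypercover.{w} T) [Finite E.I₀] (hqc : ∀ i, QuasiCompact (E.f i))
    (hE : HasValLift E) : IsVCover E := by
  refine isVCover_of_forall_affineOpens.{w, w} E fun U ↦ ⟨E.pullback₁ (U : T.Opens).ι,
    inferInstanceAs (Finite E.I₀), fun i ↦ ?_, HasValLift.pullback₁ _ hE,
    fun j ↦ ⟨j, pullback.snd (U : T.Opens).ι (E.f j), ?_⟩⟩
  · have := hqc i
    have : IsAffine ((U : T.Opens) : Scheme.{u}) := U.2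
    change CompactSpace ↥(pullback (U : T.Opens).ι (E.f i))
    exact QuasiCompact.compactSpace_of_compactSpace (pullback.fst (U : T.Opens).ι (E.f i))
  · exact pullback.condition.symm

end K346.VCover
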