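import Groth.Agent.HTop.K346.VCover

/-!
# V coverings are stable under base change and composition (seat 346)
-/

set_option autoImplicit false
universe w w' u

open CategoryTheory CategoryTheory.Limits AlgebraicGeometry HTop

namespace K346.VStable

open K346.ValLift K346.VCover

variable {T : Scheme.{u}}

/-- For a morphism `h : Z ⟶ T` from an affine scheme there are finitely many affine opens of `Z` covering `Z`, each
mapping into an affine open of `T`. -/
theorem exists_fin_affine_mapping {Z : Scheme.{u}} [CompactSpace Z] (h : Z ⟶ T) :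
    ∃ (m : ℕ) (W : Fin m → Z.affineOpens) (U : Fin m → T.affineOpens),
      (∀ k, (W k : Z.Opens) ≤ h ⁻¹ᵁ (U k : T.Opens)) ∧ ∀ z : Z, ∃ k, z ∈ (W k : Z.Opens) := by
  have h1 : ∀ z : Z, ∃ (W : Z.affineOpens) (U : T.affineOpens), z ∈ (W : Z.Opens) ∧
      (W : Z.Opens) ≤ h ⁻¹ᵁ (U : T.Opens) := by
    intro z
    obtain ⟨U, hU, hzU, -⟩ := (T.isBasis_affineOpens).exists_subset_of_mem_open
      (a := h z) (u := Set.univ) trivial isOpen_univ
    obtain ⟨U, hU, rfl⟩ := hU
    obtain ⟨W, hW, hzW, hWU⟩ := (Z.isBasis_affineOpens).exists_subset_of_mem_open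
      (a := z) (u := (h ⁻¹ᵁ U : Set Z)) hzU (h ⁻¹ᵁ U).isOpen
    obtain ⟨W, hW, rfl⟩ := hW
    exact ⟨⟨W, hW⟩, ⟨U, hU⟩, hzW, hWU⟩
  choose W U hzW hWU using h1
  obtain ⟨t, ht⟩ := CompactSpace.elim_nhds_subcover (fun z ↦ ((W z : Z.Opens) : Set Z))
    (fun z ↦ (W z : Z.Opens).isOpen.mem_nhds (hzW z))
  refine ⟨t.card, fun k ↦ W (t.equivFin.symm k), fun k ↦ U (t.equivFin.symm k), fun k ↦ hWU _, fun z ↦ ?_⟩
  have hz : z ∈ ⋃ x ∈ t, ((W x : Z.Opens) : Set Z) := by rw [ht]; trivial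
  simp only [Set.mem_iUnion] at hz
  obtain ⟨x, hx, hzx⟩ := hz
  exact ⟨t.equivFin ⟨x, hx⟩, by simpa using hzx⟩

/-- A V covering can be refined by a standard V covering after pulling back to any affine scheme. -/
theorem exists_isStandardV_refinesOver {E : PreZeroHypercover.{w} T} (hE : IsVCover E) {Z : Scheme.{u}}
    [IsAffine Z] (h : Z ⟶ T) : ∃ F : PreZeroHypercover.{0} Z, IsStandardV F ∧ RefinesOver h F E := by
  obtain ⟨m, W, U, hWU, hcov⟩ := exists_fin_affine_mapping h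
  have hE' : ∀ k, ∃ F : PreZeroHypercover.{0} (((U k : T.affineOpens) : T.Opens) : Scheme.{u}),
    IsStandardV F ∧ RefinesOver (U k : T.Opens).ι F E := fun k ↦ hE (U k)
  choose F hF hFE using hE'
  let E₀ : PreZeroHypercover.{0} Z := ⟨Fin m, fun k ↦ (W k : Z.Opens), fun k ↦ (W k : Z.Opens).ι⟩
  let r : ∀ k, ((W k : Z.Opens) : Scheme.{u}) ⟶ ((U k : T.Opens) : Scheme.{u}) := fun k ↦
    IsOpenImmersion.lift (U k : T.Opens).ι ((W k : Z.Opens).ι ≫ h) (by
      rw [Scheme.Opens.range_ι]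
      rintro _ ⟨x, rfl⟩
      rw [Scheme.Hom.comp_apply]
      exact hWU k x.2)
  have hr : ∀ k, r k ≫ (U k : T.Opens).ι = (W k : Z.Opens).ι ≫ h := fun k ↦ IsOpenImmersion.lift_fac _ _ _
  let G : ∀ k : Fin m, PreZeroHypercover.{0} (E₀.X k) := fun k ↦ (F k).pullback₁ (r k)
  have hfin (k : Fin m) : Finite (F k).I₀ := (hF k).finite_index
  have haff (k : Fin m) (j : (F k).I₀) : IsAffine ((F k).X j) := (hF k).isAffine_obj j
  have haffW (k : Fin m) : IsAffine ((W k : Z.Opens) : Scheme.{u}) := (W k).2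
  have haffU (k : Fin m) : IsAffine ((U k : T.Opens) : Scheme.{u}) := (U k).2
  have key1 : ∀ (k : Fin m) (j : (F k).I₀), IsAffine (pullback (r k) ((F k).f j)) := fun k j ↦ inferInstance
  have key2 : ∀ (k : Fin m) (j : (F k).I₀), ∃ (i : E.I₀) (q : pullback (r k) ((F k).f j) ⟶ E.X i),
      q ≫ E.f i = (pullback.fst (r k) ((F k).f j) ≫ (W k : Z.Opens).ι) ≫ h := by
    intro k j
    obtain ⟨i, q, hq⟩ := hFE k j
    refine ⟨i, pullback.snd (r k) ((F k).f j) ≫ q, ?_⟩
    rw [Category.assoc, hq, ← Category.assoc, ← pullback.condition, Category.assoc, hr, Category.assoc]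
  refine ⟨E₀.bind G, ⟨inferInstance, inferInstanceAs (Finite (Σ k : Fin m, (F k).I₀)), ?_, ?_⟩, ?_⟩
  · rintro ⟨k, j⟩
    exact key1 k j
  · refine HasValLift.bind (hasValLift_of_isOpenImmersion E₀ fun x ↦ ?_) G fun k ↦
      HasValLift.pullback₁ (r k) (hF k).lift
    obtain ⟨k, hk⟩ := hcov x
    exact ⟨k, inferInstanceAs (IsOpenImmersion (W k : Z.Opens).ι), ⟨⟨x, hk⟩, rfl⟩⟩
  · rintro ⟨k, j⟩
    exact key2 k j

/-- V coverings are stable under base change. -/
theorem isVCover_pullback₁ {T' : Scheme.{u}} (g : T' ⟶ T) (E : PreZeroHypercover.{w} T) (hE : IsVCover E) :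
    IsVCover (E.pullback₁ g) := by
  intro U
  have : IsAffine ((U : T'.Opens) : Scheme.{u}) := U.2
  obtain ⟨F, hF, hFE⟩ := exists_isStandardV_refinesOver hE ((U : T'.Opens).ι ≫ g)
  refine ⟨F, hF, fun j ↦ ?_⟩
  obtain ⟨i, q, hq⟩ := hFE j
  exact ⟨i, pullback.lift (F.f j ≫ (U : T'.Opens).ι) q (by rw [Category.assoc, hq]),
    pullback.lift_fst _ _ _⟩

/-- V coverings are stable under composition. -/
theorem isVCover_bind (E : PreZeroHypercover.{w} T) (hE : IsVCover E)
    (F : ∀ i, PreZeroHypercover.{w'} (E.X i)) (hF : ∀ i, IsVCover (F i)) : IsVCover (E.bind F) := by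
  intro U
  have : IsAffine ((U : T.Opens) : Scheme.{u}) := U.2
  obtain ⟨G, hG, hGE⟩ := hE U
  choose i q hq using hGE
  have haff := hG.isAffine_obj
  have hH : ∀ j, ∃ H : PreZeroHypercover.{0} (G.X j), IsStandardV H ∧ RefinesOver (q j) H (F (i j)) :=
    fun j ↦ exists_isStandardV_refinesOver (hF (i j)) (q j)
  choose H hH hHF using hH
  have := hG.finite_index
  have (j : G.I₀) : Finite (H j).I₀ := (hH j).finite_index
  refine ⟨G.bind H, ⟨inferInstance, inferInstanceAs (Finite (Σ j : G.I₀, (H j).I₀)), ?_, ?_⟩, ?_⟩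
  · rintro ⟨j, k⟩
    exact (hH j).isAffine_obj k
  · exact HasValLift.bind hG.lift H fun j ↦ (hH j).lift
  · rintro ⟨j, k⟩
    obtain ⟨l, p, hp⟩ := hHF j k
    refine ⟨⟨i j, l⟩, p, ?_⟩
    change p ≫ (F (i j)).f l ≫ E.f (i j) = ((H j).f k ≫ G.f j) ≫ (U : T.Opens).ι
    rw [← Category.assoc, hp, Category.assoc, hq, Category.assoc]

/-- A family refined by a V covering is a V covering. -/
theorem IsVCover.of_refinesOver {F : PreZeroHypercover.{w'} T} {E : PreZeroHypercover.{w} T}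
    (hF : IsVCover F) (h : RefinesOver (𝟙 T) F E) : IsVCover E := by
  intro U
  obtain ⟨G, hG, hGF⟩ := hF U
  exact ⟨G, hG, by simpa using RefinesOver.trans hGF h⟩

/-- V coverings have the lifting property for valuation rings. -/
theorem IsVCover.hasValLift {E : PreZeroHypercover.{w} T} (hE : IsVCover E) : HasValLift E := by
  intro V _ _ g
  obtain ⟨F, hF, hFE⟩ := exists_isStandardV_refinesOver hE g
  obtain ⟨W, _, _, φ, hφ, j, g', hg'⟩ := hF.lift V (𝟙 _)
  obtain ⟨i, q, hq⟩ := hFE j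
  exact ⟨W, inferInstance, inferInstance, φ, hφ, i, g' ≫ q, by
    rw [Category.assoc, hq, ← Category.assoc, hg', Category.comp_id]⟩

end K346.VStable
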