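import Groth.Agent.HTop.K346.PhMain
import Groth.Agent.HTop.K345.PhStd

/-!
# V coverings by morphisms locally of finite presentation are ph coverings (seat 346)
-/

set_option autoImplicit false
universe w w' u

open CategoryTheory CategoryTheory.Limits AlgebraicGeometry HTop TensorProduct

namespace K346.PhLfp

open K346.ValLift K346.VCover K346.VStable K346.PhBasic K346.PhCrit K346.PhLocal K346.PhMain K345.PhRef

/-- A finite family of finitely presented morphisms between affine schemes with the lifting property is a ph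
covering. -/
theorem isPhCover_of_Spec {A : CommRingCat.{u}} {I : Type} [Finite I] (R : I → CommRingCat.{u})
    (g : ∀ i, Spec (R i) ⟶ Spec A) (hg : ∀ i, LocallyOfFinitePresentation (g i))
    (h : HasValLift (T := Spec A) ⟨I, fun i ↦ Spec (R i), g⟩) :
    IsPhCover (T := Spec A) ⟨I, fun i ↦ Spec (R i), g⟩ := by
  let φ : ∀ i, A ⟶ R i := fun i ↦ Spec.preimage (g i)
  have hφ : ∀ i, Spec.map (φ i) = g i := fun i ↦ Spec.map_preimage (g i)
  let inst : ∀ i, Algebra A (R i) := fun i ↦ (φ i).hom.toAlgebra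
  have hfp : ∀ i, Algebra.FinitePresentation A (R i) := by
    intro i
    have h1 := hg i
    rw [← hφ i, HasRingHomProperty.Spec_iff (P := @LocallyOfFinitePresentation)] at h1
    exact h1
  have heq : fam A (fun i ↦ (R i : Type u)) = ⟨I, fun i ↦ Spec (R i), g⟩ := by
    have : (fun i ↦ Spec.map (φ i)) = g := funext hφ
    rw [← this]
    rfl
  have h2 : HasValLift (fam A (fun i ↦ (R i : Type u))) := by rw [heq]; exact h
  have h3 := isPhCover_fam A (fun i ↦ (R i : Type u)) (CL_of_hasValLift _ _ h2)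
  rw [heq] at h3
  exact h3

theorem exists_fin_affineOpen_image {Y Z : Scheme.{u}} [CompactSpace Z] (h : Z ⟶ Y) :
    ∃ (m : ℕ) (W : Fin m → Y.affineOpens), ∀ z : Z, ∃ k, h z ∈ (W k : Y.Opens) := by
  obtain ⟨m, W, U, hWU, hcov⟩ := exists_fin_affine_mapping h
  exact ⟨m, U, fun z ↦ by
    obtain ⟨k, hk⟩ := hcov z
    exact ⟨k, hWU k hk⟩⟩

/-- A V covering of an affine scheme by morphisms locally of finite presentation. -/
theorem isPhRef_of_isVCover_Spec {A : CommRingCat.{u}} (E : PreZeroHypercover.{w} (Spec A))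
    (hE : ∀ i, LocallyOfFinitePresentation (E.f i)) (hV : IsVCover E) : IsPhRef (𝟙 _) E := by
  obtain ⟨F, hF, hFE⟩ := (isVCover_iff_of_isAffine E).1 hV
  choose i q hq using hFE
  have := hF.finite_index
  have haff := hF.isAffine_obj
  have h1 : ∀ j, ∃ (m : ℕ) (W : Fin m → (E.X (i j)).affineOpens), ∀ z : F.X j, ∃ k, q j z ∈ (W k : (E.X (i j)).Opens) :=
    fun j ↦ by
      have := haff j
      exact exists_fin_affineOpen_image (q j)
  choose m W hW using h1
  obtain ⟨n, ⟨e⟩⟩ := Finite.exists_equiv_fin (Σ j : F.I₀, Fin (m j))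
  let U : ∀ k : Fin n, (E.X (i (e.symm k).1)).affineOpens := fun k ↦ W (e.symm k).1 (e.symm k).2
  let R : Fin n → CommRingCat.{u} := fun k ↦ Γ(_, (U k : (E.X (i (e.symm k).1)).Opens))
  let g : ∀ k, Spec (R k) ⟶ Spec A := fun k ↦ (U k).2.fromSpec ≫ E.f _
  have hg : ∀ k, LocallyOfFinitePresentation (g k) := fun k ↦ by
    have := hE (i (e.symm k).1)
    have : LocallyOfFinitePresentation (U k).2.fromSpec := inferInstance
    exact inferInstanceAs (LocallyOfFinitePresentation ((U k).2.fromSpec ≫ E.f _))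
  have hlift : HasValLift (T := Spec A) ⟨Fin n, fun k ↦ Spec (R k), g⟩ := by
    intro V _ _ t
    obtain ⟨W', _, _, φ, hφ, j, t', ht'⟩ := hF.lift V t
    obtain ⟨k, hk⟩ := hW j (t' (cl W'))
    have key : ∀ (l : Σ j : F.I₀, Fin (m j)), l = ⟨j, k⟩ → ∃ t'' : Spec W' ⟶ Spec Γ(_, (W l.1 l.2 : (E.X (i l.1)).Opens)),
        t'' ≫ (W l.1 l.2).2.fromSpec ≫ E.f _ = Spec.map φ ≫ t := by
      rintro l rfl
      obtain ⟨t'', ht''⟩ := exists_lift_of_cl_mem (t' ≫ q j) (W j k).2.fromSpec (by
        rw [(W j k).2.range_fromSpec]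
        exact hk)
      refine ⟨t'', ?_⟩
      rw [← Category.assoc, ht'', Category.assoc, hq, Category.comp_id, ht']
    obtain ⟨t'', ht''⟩ := key (e.symm (e ⟨j, k⟩)) (e.symm_apply_apply _)
    exact ⟨W', inferInstance, inferInstance, φ, hφ, e ⟨j, k⟩, t'', ht''⟩
  have h2 := isPhCover_of_Spec R g hg hlift
  have h3 := K345.PhStd.isPhRef_of_isPhCover ((K345.PhStd.isPhCover_iff _).1 h2).2 (𝟙 (Spec A))
  have h4 := h3.postcomp (𝟙 _) (E' := E) fun k ↦ ⟨i (e.symm k).1, (U k).2.fromSpec, (Category.comp_id _).symm⟩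
  rwa [Category.comp_id] at h4

theorem isPhCover_of_isVCover {T : Scheme.{u}} (E : PreZeroHypercover.{w} T)
    (hE : ∀ i, LocallyOfFinitePresentation (E.f i)) (hV : IsVCover E) : IsPhCover E := by
  rw [K345.PhStd.isPhCover_iff]
  refine ⟨fun i ↦ ?_, fun U ↦ ?_⟩
  · have := hE i
    infer_instance
  let r : Spec Γ(T, (U : T.Opens)) ⟶ T := U.2.fromSpec
  have h1 : IsPhRef (𝟙 _) (E.pullback₁ r) := by
    refine isPhRef_of_isVCover_Spec _ (fun i ↦ ?_) (isVCover_pullback₁ r E hV)
    have := hE i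
    exact inferInstanceAs (LocallyOfFinitePresentation (pullback.fst r (E.f i)))
  have h2 := h1.postcomp r (E' := E) fun i ↦ ⟨i, pullback.snd r (E.f i), pullback.condition.symm⟩
  have h3 := h2.comp_left U.2.isoSpec.hom
  have h4 : U.2.isoSpec.hom ≫ (𝟙 _ ≫ r) = (U : T.Opens).ι := by
    rw [Category.id_comp, IsAffineOpen.isoSpec_hom]
    exact IsAffineOpen.toSpecΓ_fromSpec _
  rwa [h4] at h3

end K346.PhLfp
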