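import Mathlib.AlgebraicGeometry.AffineTransitionLimit
import Groth.Prelude.Def_HTop

/-!
# Descending local factorizations along cofiltered limits (seat 346)
-/

set_option autoImplicit false
universe w w' u

open CategoryTheory CategoryTheory.Limits AlgebraicGeometry HTop TopologicalSpace

namespace K346.Descend

variable {I : Type u} [SmallCategory I] [IsCofiltered I] (D : I ⥤ Scheme.{u}) {X : Scheme.{u}}
  (t : D ⟶ (Functor.const I).obj X) (c : Cone D) (hc : IsLimit c)
  [∀ {i j : I} (f : i ⟶ j), IsAffineHom (D.map f)] [∀ i, CompactSpace (D.obj i)]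
  [∀ i, QuasiSeparatedSpace (D.obj i)]

set_option backward.isDefEq.respectTransparency false in
omit [∀ (i : I), CompactSpace ↥(D.obj i)] in
include hc in
theorem exists_descend_one {Y : Scheme.{u}} (f : Y ⟶ X) [LocallyOfFinitePresentation f] (i : I)
    (V : (D.obj i).Opens) (hV : IsCompact (V : Set (D.obj i)))
    (h : ((c.π.app i ⁻¹ᵁ V : c.pt.Opens) : Scheme.{u}) ⟶ Y)
    (hh : h ≫ f = (c.π.app i ⁻¹ᵁ V : c.pt.Opens).ι ≫ c.π.app i ≫ t.app i) :
    ∃ (j : I) (a : j ⟶ i) (h' : ((D.map a ⁻¹ᵁ V : (D.obj j).Opens) : Scheme.{u}) ⟶ Y),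
      h' ≫ f = (D.map a ⁻¹ᵁ V : (D.obj j).Opens).ι ≫ t.app j := by
  let tk : opensDiagram D i V ⟶ (Functor.const (Over i)).obj X :=
    { app := fun j ↦ (D.map j.hom ⁻¹ᵁ V).ι ≫ t.app j.left
      naturality := fun j k a ↦ by
        have := t.naturality a.left
        simp only [Functor.const_obj_obj, Functor.const_obj_map, Category.comp_id] at this ⊢
        simp [opensDiagram, this] }
  have : ∀ j, CompactSpace ((opensDiagram D i V).obj j) := fun j ↦
    isCompact_iff_compactSpace.mp (QuasiCompact.isCompact_preimage _ V.2 hV)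
  have : ∀ j, QuasiSeparatedSpace ((opensDiagram D i V).obj j) := fun j ↦
    (isQuasiSeparated_iff_quasiSeparatedSpace _ (D.map _ ⁻¹ᵁ _).2).mp (.of_quasiSeparatedSpace _)
  obtain ⟨j, g, hg1, hg2⟩ := Scheme.exists_π_app_comp_eq_of_locallyOfFinitePresentation
    (opensDiagram D i V) tk f (opensCone D c i V) (isLimitOpensCone D c hc i V) h (by
      ext j
      have h1 : c.π.app j.left ≫ t.app j.left = c.π.app i ≫ t.app i := by
        have h2 := t.naturality j.hom
        simp only [Functor.const_obj_obj, Functor.const_obj_map, Category.comp_id] at h2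
        rw [← h2, ← Category.assoc, c.w]
      simp only [NatTrans.comp_app, opensCone_π_app, Functor.const_map_app, tk]
      rw [hh, Scheme.Hom.resLE_comp_ι_assoc, h1])
  exact ⟨j.left, j.hom, g, hg2⟩

include hc in
/-- A finite affine open covering of the limit whose members map to members of a family of morphisms locally of
finite presentation descends. -/
theorem exists_descend (E : PreZeroHypercover.{w} X) (hE : ∀ i, LocallyOfFinitePresentation (E.f i))
    {J : Type} [Finite J] (U : J → c.pt.Opens) (hU : IsOpenCover U) (hU' : ∀ k, IsAffineOpen (U k))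
    (g : c.pt ⟶ X) (hg : ∀ i, c.π.app i ≫ t.app i = g)
    (m : J → E.I₀) (h : ∀ k, (U k : Scheme.{u}) ⟶ E.X (m k)) (hh : ∀ k, h k ≫ E.f (m k) = (U k).ι ≫ g) :
    ∃ (i : I) (V : J → (D.obj i).Opens), IsOpenCover V ∧ (∀ k, IsAffineOpen (V k)) ∧
      ∀ k, ∃ h' : (V k : Scheme.{u}) ⟶ E.X (m k), h' ≫ E.f (m k) = (V k).ι ≫ t.app i := by
  obtain ⟨i, V, hV, hVU⟩ := Scheme.exists_isOpenCover_and_isAffine_of_finite D c hc U hU hU'
  have h1 : ∀ k, ∃ (j : I) (a : j ⟶ i) (h' : ((D.map a ⁻¹ᵁ V k : (D.obj j).Opens) : Scheme.{u}) ⟶ E.X (m k)),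
      h' ≫ E.f (m k) = (D.map a ⁻¹ᵁ V k : (D.obj j).Opens).ι ≫ t.app j := by
    intro k
    have := hE (m k)
    refine exists_descend_one D t c hc (E.f (m k)) i (V k) (hVU k).1.isCompact
      ((c.pt.isoOfEq (hVU k).2).inv ≫ h k) ?_
    rw [Category.assoc, hh, Scheme.isoOfEq_inv_ι_assoc, hg]
  choose j a h' hh' using h1
  obtain ⟨l, b, d, hd⟩ := IsCofiltered.wideCospan a
  refine ⟨l, fun k ↦ D.map b ⁻¹ᵁ V k, ?_, fun k ↦ (hVU k).1.preimage _, fun k ↦ ?_⟩
  · have h2 : ⨆ k, D.map b ⁻¹ᵁ V k = ⊤ := by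
      rw [← Scheme.Hom.preimage_iSup, show ⨆ k, V k = ⊤ from hV, Scheme.Hom.preimage_top]
    exact h2
  · have h3 : D.map b ⁻¹ᵁ V k ≤ D.map (d k) ⁻¹ᵁ (D.map (a k) ⁻¹ᵁ V k) := by
      rw [← Scheme.Hom.comp_preimage, ← D.map_comp, hd]
    refine ⟨(D.map (d k)).resLE _ _ h3 ≫ h' k, ?_⟩
    have h4 : D.map (d k) ≫ t.app (j k) = t.app l := (t.naturality (d k)).trans (Category.comp_id _)
    rw [Category.assoc, hh', Scheme.Hom.resLE_comp_ι_assoc, h4]

end K346.Descend
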