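import Groth.Prelude.Def_HTop

/-!
# Sheaves on the big h and ph sites: the sheaf property for h (ph) covering families (seat 346)
-/

set_option autoImplicit false
universe w w' u

open CategoryTheory CategoryTheory.Limits AlgebraicGeometry HTop Opposite

namespace K346.Site

variable {S : Scheme.{u}}

theorem isSheafFor_of_mem {K : Precoverage Scheme.{u}} {P : (Over S)ᵒᵖ ⥤ Type w}
    (hP : Presieve.IsSheaf (K.toGrothendieck.over S) P) {X : Over S} {R : Presieve X}
    (hR : R.map (Over.forget S) ∈ K X.left) : R.IsSheafFor P := by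
  rw [Presieve.isSheafFor_iff_generate]
  refine hP _ ?_
  rw [GrothendieckTopology.mem_over_iff, Sieve.overEquiv_generate]
  refine K.toGrothendieck.superset_covering ?_ (Precoverage.generate_mem_toGrothendieck hR)
  refine (Sieve.generate_le_iff _ _).2 ?_
  rintro Y _ ⟨hf⟩
  exact Sieve.le_generate _ _ _ ⟨_, _, 𝟙 _, hf, (Category.id_comp _).symm⟩

theorem isSheafFor_of_isHCover {P : (Over S)ᵒᵖ ⥤ Type w} (hP : Presieve.IsSheaf (Jh S) P) {X : Over S}
    (E : PreZeroHypercover.{w'} X) (hE : IsHCover (E.map (Over.forget S))) : E.presieve₀.IsSheafFor P := by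
  refine isSheafFor_of_mem hP ?_
  rw [← PreZeroHypercover.presieve₀_map]
  exact (presieve₀_mem_hPrecoverage_iff _).2 hE

theorem isSheafFor_of_isPhCover {P : (Over S)ᵒᵖ ⥤ Type w} (hP : Presieve.IsSheaf (Jph S) P) {X : Over S}
    (E : PreZeroHypercover.{w'} X) (hE : IsPhCover (E.map (Over.forget S))) : E.presieve₀.IsSheafFor P := by
  refine isSheafFor_of_mem hP ?_
  rw [← PreZeroHypercover.presieve₀_map]
  exact (presieve₀_mem_phPrecoverage_iff _).2 hE

theorem isSheafFor_singleton_of_isHCover {P : (Over S)ᵒᵖ ⥤ Type w} (hP : Presieve.IsSheaf (Jh S) P)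
    {X Y : Over S} (f : Y ⟶ X) (hf : IsHCover (PreZeroHypercover.singleton.{0} f.left)) :
    (Presieve.singleton f).IsSheafFor P := by
  have h := isSheafFor_of_isHCover hP (PreZeroHypercover.singleton.{0} f) hf
  rwa [PreZeroHypercover.presieve₀_singleton] at h

theorem isSheafFor_singleton_of_isPhCover {P : (Over S)ᵒᵖ ⥤ Type w} (hP : Presieve.IsSheaf (Jph S) P)
    {X Y : Over S} (f : Y ⟶ X) (hf : IsPhCover (PreZeroHypercover.singleton.{0} f.left)) :
    (Presieve.singleton f).IsSheafFor P := by
  have h := isSheafFor_of_isPhCover hP (PreZeroHypercover.singleton.{0} f) hf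
  rwa [PreZeroHypercover.presieve₀_singleton] at h

/-- For a monomorphism `f`, the sheaf condition for `{f}` says that `P.map f.op` is bijective. -/
theorem bijective_of_isSheafFor_singleton {C : Type*} [Category C] {P : Cᵒᵖ ⥤ Type w} {X Y : C} (f : Y ⟶ X)
    [Mono f] (h : (Presieve.singleton f).IsSheafFor P) : Function.Bijective (P.map f.op) := by
  rw [Presieve.isSheafFor_singleton] at h
  rw [Function.bijective_iff_existsUnique]
  intro x
  exact h x fun p₁ p₂ hp ↦ by rw [(cancel_mono f).1 hp]

end K346.Site
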