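import Groth.Agent.HTop.K343.Ab.Sq
import Groth.Agent.FlatA.ClosedFP
import Groth.Agent.S0594

/-!
# Closed subschemes of finite presentation of almost blow ups (seat 346)
-/

set_option autoImplicit false
universe u

open CategoryTheory
open CategoryTheory.Limits hiding diag
open AlgebraicGeometry Opposite

namespace K346.AbLim

open Groth.Agent.FlatA.ClosedFP K343.Ab

variable {X X₁ X₂ : Scheme.{u}}

/-- A morphism from a closed subscheme to a scheme of finite presentation over the base extends to a finitely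
presented closed subscheme. -/
theorem exists_extend [CompactSpace X₁] [QuasiSeparatedSpace X₁] (L : X₁.IdealSheafData) (b₁ : X₁ ⟶ X)
    (b₂ : X₂ ⟶ X) [LocallyOfFinitePresentation b₂] (m : L.subscheme ⟶ X₂) (hm : m ≫ b₂ = L.subschemeι ≫ b₁) :
    ∃ (K : (Idx L)ᵒᵖ) (g : (diag L).obj K ⟶ X₂), (cone L).π.app K ≫ g = m ∧ g ≫ b₂ = emb L K ≫ b₁ := by
  let t : diag L ⟶ (Functor.const (Idx L)ᵒᵖ).obj X :=
    { app := fun K ↦ emb L K ≫ b₁
      naturality := fun K K' h ↦ by
        rw [← Category.assoc, map_emb]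
        exact (Category.comp_id _).symm }
  have : ∀ K, CompactSpace ((diag L).obj K) := fun K ↦
    QuasiCompact.compactSpace_of_compactSpace (emb L K)
  have : ∀ K, QuasiSeparatedSpace ((diag L).obj K) := fun K ↦
    quasiSeparatedSpace_of_quasiSeparated (emb L K)
  have : ∀ {K K' : (Idx L)ᵒᵖ} (h : K ⟶ K'), IsAffineHom ((diag L).map h) := fun {K K'} h ↦ by
    have : IsClosedImmersion ((diag L).map h ≫ emb L K') := by
      rw [map_emb]
      infer_instance
    have : IsClosedImmersion ((diag L).map h) := IsClosedImmersion.of_comp _ (emb L K')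
    infer_instance
  obtain ⟨K, g, h1, h2⟩ := Scheme.exists_π_app_comp_eq_of_locallyOfFinitePresentation (diag L) t b₂ (cone L)
    (isLimitCone L) m (by
      ext K
      simp only [NatTrans.comp_app, Functor.const_map_app, t]
      rw [π_emb_assoc]
      exact hm.symm)
  exact ⟨K, g, h1, h2⟩

attribute [local instance] CategoryTheory.isConnected_of_hasTerminal

/-- If the morphism from the closed subscheme is a closed immersion, it extends to a closed immersion. -/
theorem exists_extend_isClosedImmersion [CompactSpace X₁] [QuasiSeparatedSpace X₁] [CompactSpace X₂]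
    [QuasiSeparatedSpace X₂] (L : X₁.IdealSheafData) (b₁ : X₁ ⟶ X) [LocallyOfFiniteType b₁]
    (b₂ : X₂ ⟶ X) [LocallyOfFinitePresentation b₂] (m : L.subscheme ⟶ X₂) [IsClosedImmersion m]
    (hm : m ≫ b₂ = L.subschemeι ≫ b₁) :
    ∃ (K : (Idx L)ᵒᵖ) (g : (diag L).obj K ⟶ X₂), IsClosedImmersion g ∧ (cone L).π.app K ≫ g = m ∧
      g ≫ b₂ = emb L K ≫ b₁ := by
  obtain ⟨K, g, h1, h2⟩ := exists_extend L b₁ b₂ m hm
  let D : Over K ⥤ Scheme.{u} := Over.forget K ⋙ diag L
  let t : D ⟶ (Functor.const (Over K)).obj X₂ :=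
    { app := fun j ↦ (diag L).map j.hom ≫ g
      naturality := fun j j' a ↦ by
        change (diag L).map a.left ≫ (diag L).map j'.hom ≫ g = ((diag L).map j.hom ≫ g) ≫ 𝟙 _
        rw [← Category.assoc, ← Functor.map_comp, Over.w a, Category.comp_id] }
  let c : Cone D := (cone L).whisker (Over.forget K)
  have hc : IsLimit c := (Functor.Initial.isLimitWhiskerEquiv (Over.forget K) (cone L)).symm (isLimitCone L)
  have h3 : ∀ (j j' : Over K) (a : j ⟶ j'), IsClosedImmersion (D.map a) := fun j j' a ↦ by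
    have : IsClosedImmersion ((diag L).map a.left ≫ emb L j'.left) := by
      rw [map_emb]
      infer_instance
    exact IsClosedImmersion.of_comp ((diag L).map a.left) (emb L j'.left)
  have h40 : ∀ K', CompactSpace ((diag L).obj K') := fun K' ↦
    QuasiCompact.compactSpace_of_compactSpace (emb L K')
  have h50 : ∀ K', QuasiSeparatedSpace ((diag L).obj K') := fun K' ↦
    quasiSeparatedSpace_of_quasiSeparated (emb L K')
  have h4 : ∀ j : Over K, CompactSpace (D.obj j) := fun j ↦ h40 j.left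
  have h5 : ∀ j : Over K, QuasiSeparatedSpace (D.obj j) := fun j ↦ h50 j.left
  have h60 : ∀ (K' : (Idx L)ᵒᵖ) (a : K' ⟶ K), ((diag L).map a ≫ g) ≫ b₂ = emb L K' ≫ b₁ := fun K' a ↦ by
    rw [Category.assoc, h2, ← Category.assoc, map_emb]
  have h70 : ∀ (K' : (Idx L)ᵒᵖ) (a : K' ⟶ K), LocallyOfFiniteType ((diag L).map a ≫ g) := fun K' a ↦ by
    have : LocallyOfFiniteType (((diag L).map a ≫ g) ≫ b₂) := by
      rw [h60]
      infer_instance
    exact locallyOfFiniteType_of_comp ((diag L).map a ≫ g) b₂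
  have h7 : ∀ j : Over K, LocallyOfFiniteType (t.app j) := fun j ↦ h70 j.left j.hom
  have h8 : IsClosedImmersion (c.π.app (Over.mk (𝟙 K)) ≫ t.app (Over.mk (𝟙 K))) := by
    have : c.π.app (Over.mk (𝟙 K)) ≫ t.app (Over.mk (𝟙 K)) = m := by
      refine Eq.trans ?_ h1
      change (cone L).π.app K ≫ (diag L).map (𝟙 K) ≫ g = (cone L).π.app K ≫ g
      rw [CategoryTheory.Functor.map_id, Category.id_comp]
    rw [this]
    assumption
  obtain ⟨j, hj⟩ := Groth.Agent.S0594.result X₂ D t c hc (Over.mk (𝟙 K))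
  refine ⟨j.left, (diag L).map j.hom ≫ g, hj, ?_, h60 j.left j.hom⟩
  rw [← Category.assoc, (cone L).w, h1]

theorem locallyOfFinitePresentation_emb (L : X.IdealSheafData) (K : (Idx L)ᵒᵖ) :
    LocallyOfFinitePresentation (emb L K) :=
  locallyOfFinitePresentation_subschemeι K.unop.1 K.unop.2.2

/-- The comparison of the blow ups inside two almost blow ups. -/
theorem exists_isClosedImmersion {I : X.IdealSheafData} {b₁ : X₁ ⟶ X} {b₂ : X₂ ⟶ X} (h₁ : Univ b₁ I) (h₂ : Univ b₂ I)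
    (hl₁ : HTop.IsLocPrincipal (I.comap b₁)) (hl₂ : HTop.IsLocPrincipal (I.comap b₂)) :
    ∃ m : (HTop.supportedOn (I.comap b₁)).subscheme ⟶ X₂, IsClosedImmersion m ∧
      m ≫ b₂ = (HTop.supportedOn (I.comap b₁)).subschemeι ≫ b₁ := by
  have key : ∀ {X₁ X₂ : Scheme.{u}} {b₁ : X₁ ⟶ X} {b₂ : X₂ ⟶ X} (h₁ : Univ b₁ I) (h₂ : Univ b₂ I)
      (hl₁ : HTop.IsLocPrincipal (I.comap b₁)) (hl₂ : HTop.IsLocPrincipal (I.comap b₂)),
      ∃ l : (HTop.supportedOn (I.comap b₁)).subscheme ⟶ (HTop.supportedOn (I.comap b₂)).subscheme,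
        l ≫ (HTop.supportedOn (I.comap b₂)).subschemeι ≫ b₂ = (HTop.supportedOn (I.comap b₁)).subschemeι ≫ b₁ := by
    intro X₁ X₂ b₁ b₂ h₁ h₂ hl₁ hl₂
    have h3 : BlowUp.IsEffCartierIdeal (I.comap ((HTop.supportedOn (I.comap b₁)).subschemeι ≫ b₁)) := by
      rw [Scheme.IdealSheafData.comap_comp]
      exact isEff_comap_supportedOn hl₁
    obtain ⟨m, hm, -⟩ := h₂ _ _ h3
    have h4 : BlowUp.IsEffCartierIdeal ((I.comap b₂).comap m) := by
      rw [← Scheme.IdealSheafData.comap_comp, hm]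
      exact h3
    obtain ⟨l, hl⟩ := K343.Ab.exists_lift m h4
    exact ⟨l, by rw [← Category.assoc, hl, hm]⟩
  have hid : ∀ {X₁ : Scheme.{u}} {b₁ : X₁ ⟶ X} (h₁ : Univ b₁ I) (hl₁ : HTop.IsLocPrincipal (I.comap b₁))
      (l : (HTop.supportedOn (I.comap b₁)).subscheme ⟶ (HTop.supportedOn (I.comap b₁)).subscheme),
      l ≫ (HTop.supportedOn (I.comap b₁)).subschemeι ≫ b₁ = (HTop.supportedOn (I.comap b₁)).subschemeι ≫ b₁ →
        l = 𝟙 _ := by
    intro X₁ b₁ h₁ hl₁ l hl
    have h3 : BlowUp.IsEffCartierIdeal (I.comap ((HTop.supportedOn (I.comap b₁)).subschemeι ≫ b₁)) := by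
      rw [Scheme.IdealSheafData.comap_comp]
      exact isEff_comap_supportedOn hl₁
    obtain ⟨m, -, hu⟩ := h₁ _ _ h3
    rw [← cancel_mono (HTop.supportedOn (I.comap b₁)).subschemeι, Category.id_comp]
    rw [hu _ (show _ = _ from (Category.assoc _ _ _).trans hl), hu _ rfl]
  obtain ⟨l, hl⟩ := key h₁ h₂ hl₁ hl₂
  obtain ⟨l', hl'⟩ := key h₂ h₁ hl₂ hl₁
  have e1 : l ≫ l' = 𝟙 _ := hid h₁ hl₁ _ (by rw [Category.assoc, hl', hl])
  have e2 : l' ≫ l = 𝟙 _ := hid h₂ hl₂ _ (by rw [Category.assoc, hl, hl'])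
  have : IsIso l := ⟨l', e1, e2⟩
  exact ⟨l ≫ (HTop.supportedOn (I.comap b₂)).subschemeι, inferInstance, by rw [Category.assoc, hl]⟩

end K346.AbLim
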