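import Groth.Agent.HTop.K346.FamDescend
import Groth.Agent.HTop.K346.AbLim
import Groth.Agent.S8984
import Groth.Agent.S1273
import Groth.Agent.Flat2C.StrictTr
import Groth.Agent.Ega43.FPOfComp

/-!
# Flattening by almost blow ups (seat 346)
-/

set_option autoImplicit false
universe u

open CategoryTheory
open CategoryTheory.Limits hiding diag
open AlgebraicGeometry Opposite

namespace K346.AbFlat

open Groth.Agent.FlatA.ClosedFP K343.Ab K346.AbLim K346.FamDescend
open Groth.Agent.Flat2C.StrictTr (killedIdeal isKilledIdeal_killedIdeal isFiniteTypeIdeal_comap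
  exists_iso_of_isBlowUp)

theorem flat_of_comp_iso {A B C : Scheme.{u}} (f : A ⟶ B) (e : B ≅ C) (h : Flat (f ≫ e.hom)) : Flat f := by
  rwa [MorphismProperty.cancel_right_of_respectsIso (P := @Flat)] at h

theorem lfp_of_comp_iso {A B C : Scheme.{u}} (f : A ⟶ B) (e : B ≅ C)
    (h : LocallyOfFinitePresentation (f ≫ e.hom)) : LocallyOfFinitePresentation f := by
  rwa [MorphismProperty.cancel_right_of_respectsIso (P := @LocallyOfFinitePresentation)] at h

theorem qc_of_comp_iso {A B C : Scheme.{u}} (f : A ⟶ B) (e : B ≅ C)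
    (h : QuasiCompact (f ≫ e.hom)) : QuasiCompact f := by
  rwa [MorphismProperty.cancel_right_of_respectsIso (P := @QuasiCompact)] at h

theorem qs_of_comp_iso {A B C : Scheme.{u}} (f : A ⟶ B) (e : B ≅ C)
    (h : QuasiSeparated (f ≫ e.hom)) : QuasiSeparated f := by
  rwa [MorphismProperty.cancel_right_of_respectsIso (P := @QuasiSeparated)] at h

variable {X Y : Scheme.{u}} [CompactSpace Y] [QuasiSeparatedSpace Y] (f : X ⟶ Y)
  [LocallyOfFinitePresentation f] [QuasiCompact f] [QuasiSeparated f]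

set_option backward.isDefEq.respectTransparency false in
/-- The flat family over a finitely presented closed subscheme of the corner. -/
theorem exists_family (V : Y.Opens) (hV : IsCompact (V : Set Y)) (hf : Flat (f ∣_ V)) :
    ∃ (I : Y.IdealSheafData), BlowUp.IsFiniteTypeIdeal I ∧ BlowUp.IsAdmissibleFor V I ∧
      ∃ (E Y₁ : Scheme.{u}) (e : E ⟶ Y₁) (π : E ⟶ I.subscheme) (b₁ : Y₁ ⟶ Y),
        HTop.IsAlmostBlowUpSquare e π b₁ I.subschemeι ∧
        ∃ (K : (Idx (HTop.supportedOn (I.comap b₁)))ᵒᵖ) (P' : Scheme.{u}) (p' : P' ⟶ (diag _).obj K) (q' : P' ⟶ X)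
          (h : q' ≫ f = p' ≫ emb _ K ≫ b₁), Flat p' ∧ LocallyOfFinitePresentation p' ∧
          IsClosedImmersion (pullback.lift q' p' h) ∧
          ∀ (T : Scheme.{u}) (t : T ⟶ X), BlowUp.IsEffCartierIdeal (I.comap (t ≫ f)) →
            ∃ k : T ⟶ P', k ≫ q' = t := by
  have : LocallyOfFinitePresentation (f ∣_ V) := inferInstance
  obtain ⟨I, Y₂, b₂, hb₂, hadm, hmain⟩ := Groth.Agent.S1273.result f V hV
  have hfp : LocallyOfFinitePresentation I.subschemeι := locallyOfFinitePresentation_subschemeι I hadm.1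
  obtain ⟨E₁, Y₁, e₁, π₁, b₁, hsq⟩ := Groth.Agent.S8984.result I.subschemeι
  have hker : I.subschemeι.ker = I := Scheme.IdealSheafData.ker_subschemeι I
  have := hsq.isProper
  have := hsq.finitePresentation
  have : CompactSpace Y₁ := QuasiCompact.compactSpace_of_compactSpace b₁
  have : QuasiSeparatedSpace Y₁ := quasiSeparatedSpace_of_quasiSeparated b₁
  have hB : BlowUp.IsBlowUp ((HTop.supportedOn (I.comap b₁)).subschemeι ≫ b₁) I := by
    have h1 := hsq.isBlowUp
    rwa [hker] at h1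
  set L := HTop.supportedOn (I.comap b₁) with hL
  obtain ⟨ε, hε⟩ := exists_iso_of_isBlowUp hB hb₂
  let bB : L.subscheme ⟶ Y := L.subschemeι ≫ b₁
  let p₁ : pullback f bB ⟶ X := pullback.fst f bB
  let p₂ : pullback f bB ⟶ L.subscheme := pullback.snd f bB
  have hw : p₁ ≫ f = p₂ ≫ bB := pullback.condition
  have hpb : IsPullback p₁ (p₂ ≫ ε.hom) f b₂ := by
    refine IsPullback.of_iso (IsPullback.of_hasPullback f bB) (Iso.refl _) (Iso.refl _) ε (Iso.refl _) ?_ ?_ ?_ ?_
    · simp [p₁]
    · simp [p₂]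
    · simp
    · simp only [Iso.refl_hom, Category.comp_id]
      exact hε.symm
  let 𝓔 := (I.comap f).comap p₁
  have hft : BlowUp.IsFiniteTypeIdeal 𝓔 := isFiniteTypeIdeal_comap (isFiniteTypeIdeal_comap hadm.1 f) p₁
  let J := killedIdeal 𝓔
  obtain ⟨hJ1, hJ2, hJ3, hJ4⟩ := hmain _ p₁ (p₂ ≫ ε.hom) hpb J (isKilledIdeal_killedIdeal hft)
  rw [← Category.assoc] at hJ1 hJ2 hJ3 hJ4
  let p : J.subscheme ⟶ (cone L).pt := J.subschemeι ≫ p₂
  have : Flat p := flat_of_comp_iso _ ε hJ1
  have : LocallyOfFinitePresentation p := lfp_of_comp_iso _ ε hJ2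
  have : QuasiCompact p := qc_of_comp_iso _ ε hJ3
  have : QuasiSeparated p := qs_of_comp_iso _ ε hJ4
  let q : J.subscheme ⟶ X := J.subschemeι ≫ p₁
  have : ∀ K, CompactSpace ((diag L).obj K) := fun K ↦
    QuasiCompact.compactSpace_of_compactSpace (emb L K)
  have : ∀ K, QuasiSeparatedSpace ((diag L).obj K) := fun K ↦
    quasiSeparatedSpace_of_quasiSeparated (emb L K)
  have hclD : ∀ (K K' : (Idx L)ᵒᵖ) (h : K ⟶ K'), IsClosedImmersion ((diag L).map h) := fun K K' h ↦ by
    have : IsClosedImmersion ((diag L).map h ≫ emb L K') := by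
      rw [map_emb]
      infer_instance
    exact IsClosedImmersion.of_comp_isClosedImmersion _ (emb L K')
  have hclπ : ∀ K, IsClosedImmersion ((cone L).π.app K) := fun K ↦ by
    have : IsClosedImmersion ((cone L).π.app K ≫ emb L K) := by
      rw [π_emb]
      infer_instance
    exact IsClosedImmersion.of_comp_isClosedImmersion _ (emb L K)
  let t : diag L ⟶ (Functor.const (Idx L)ᵒᵖ).obj Y :=
    { app := fun K ↦ emb L K ≫ b₁
      naturality := fun K K' h ↦ by
        rw [← Category.assoc, map_emb]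
        exact (Category.comp_id _).symm }
  have hπt : ∀ K, (cone L).π.app K ≫ t.app K = bB := fun K ↦ by
    change (cone L).π.app K ≫ emb L K ≫ b₁ = _
    rw [π_emb_assoc]
    rfl
  have hq : ∀ K, q ≫ f = (p ≫ (cone L).π.app K) ≫ t.app K := fun K ↦ by
    rw [Category.assoc p, hπt]
    change (J.subschemeι ≫ p₁) ≫ f = (J.subschemeι ≫ p₂) ≫ bB
    rw [Category.assoc, hw, Category.assoc]
  have hcl : ∀ K, IsClosedImmersion (pullback.lift q (p ≫ (cone L).π.app K) (hq K)) := fun K ↦ by
    let m : pullback f bB ⟶ pullback f (t.app K) :=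
      pullback.map _ _ _ _ (𝟙 _) ((cone L).π.app K) (𝟙 _) (by simp) (by rw [hπt]; exact Category.comp_id _)
    have hm1 : m ≫ pullback.fst f (t.app K) = p₁ := (pullback.lift_fst _ _ _).trans (Category.comp_id _)
    have hm2 : m ≫ pullback.snd f (t.app K) = p₂ ≫ (cone L).π.app K := pullback.lift_snd _ _ _
    have hm : IsClosedImmersion m := by
      have h1 : IsPullback m p₂ (pullback.snd f (t.app K)) ((cone L).π.app K) := by
        refine IsPullback.of_right (h₁₂ := pullback.fst f (t.app K)) (h₂₂ := t.app K) (v₁₃ := f) ?_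
          hm2 (IsPullback.of_hasPullback _ _)
        rw [hm1, hπt]
        exact IsPullback.of_hasPullback _ _
      exact MorphismProperty.of_isPullback h1.flip (hclπ K)
    have h2 : pullback.lift q (p ≫ (cone L).π.app K) (hq K) = J.subschemeι ≫ m := by
      apply pullback.hom_ext
      · rw [pullback.lift_fst, Category.assoc, hm1]
      · rw [pullback.lift_snd]
        refine Eq.trans ?_ (congrArg (J.subschemeι ≫ ·) hm2.symm)
        exact Category.assoc _ _ _
    rw [h2]
    infer_instance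
  obtain ⟨K, P', p', q', g, h, -, h1, h2, h3, h4⟩ := exists_descend_family (diag L) (cone L) (isLimitCone L) t f p q
    hq hcl
  refine ⟨I, hadm.1, hadm, E₁, Y₁, e₁, π₁, b₁, hsq, K, P', p', q', h, h1, h2, h4, fun T s hs ↦ ?_⟩
  obtain ⟨l, hl, -⟩ := hB.2 T (s ≫ f) hs
  have hl' : s ≫ f = l ≫ bB := hl.symm
  let r : T ⟶ pullback f bB := pullback.lift s l hl'
  have hr : r ≫ p₁ = s := pullback.lift_fst _ _ _
  have heff : BlowUp.IsEffCartierIdeal (𝓔.comap r) := by
    change BlowUp.IsEffCartierIdeal (((I.comap f).comap p₁).comap r)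
    rw [← Scheme.IdealSheafData.comap_comp, hr, ← Scheme.IdealSheafData.comap_comp]
    exact hs
  obtain ⟨k, hk⟩ := K343.Ab.exists_lift r heff
  refine ⟨k ≫ g, ?_⟩
  rw [Category.assoc, h3]
  change k ≫ (HTop.supportedOn 𝓔).subschemeι ≫ p₁ = s
  rw [← Category.assoc, hk, hr]

theorem isProper_of_lift {A B C D : Scheme.{u}} (f : A ⟶ B) (b : C ⟶ B) [IsProper b] (q : D ⟶ A) (p : D ⟶ C)
    (h : q ≫ f = p ≫ b) (hcl : IsClosedImmersion (pullback.lift q p h)) : IsProper q := by
  have h1 : pullback.lift q p h ≫ pullback.fst f b = q := pullback.lift_fst _ _ _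
  rw [← h1]
  infer_instance

/-- Flattening by almost blow ups. -/
theorem exists_flattening (V : Y.Opens) (hV : IsCompact (V : Set Y)) (hf : Flat (f ∣_ V)) :
    ∃ (Z Y' E T X' D : Scheme.{u}) (iZ : Z ⟶ Y) (bY : Y' ⟶ Y) (eE : E ⟶ Y') (πE : E ⟶ Z) (iT : T ⟶ X) (bX : X' ⟶ X)
      (eD : D ⟶ X') (πD : D ⟶ T) (fZ : T ⟶ Z) (f' : X' ⟶ Y') (fE : D ⟶ E),
      HTop.IsAlmostBlowUpSquare eE πE bY iZ ∧ HTop.IsAlmostBlowUpSquare eD πD bX iT ∧ IsPullback fZ iT iZ f ∧
      IsPullback fE eD eE f' ∧ f' ≫ bY = bX ≫ f ∧ πD ≫ fZ = fE ≫ πE ∧ iZ ⁻¹ᵁ V = ⊥ ∧ Flat f' ∧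
      LocallyOfFinitePresentation f' := by
  obtain ⟨I, hI, hadm, E₁, Y₁, e₁, π₁, b₁, hsq, K, P', p', q', h, hfl, hfp, hcl, hex⟩ := exists_family f V hV hf
  have hker : I.subschemeι.ker = I := Scheme.IdealSheafData.ker_subschemeι I
  have := hsq.isProper
  have := hsq.finitePresentation
  have := hsq.finitePresentation_base
  let w := emb _ K
  have hwlfp : LocallyOfFinitePresentation w := locallyOfFinitePresentation_emb _ K
  have hw : w.ker ≤ HTop.supportedOn (I.subschemeι.ker.comap b₁) := by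
    rw [ker_emb, hker]
    exact K.unop.2.1
  have hsq' := (K343.Ab.ker_le_iff hsq w (IsPullback.of_hasPullback e₁ w)).1 hw
  have h' : q' ≫ f = p' ≫ w ≫ b₁ := h
  have hpX : IsProper q' := isProper_of_lift f (w ≫ b₁) q' p' h' hcl
  have hlX : LocallyOfFinitePresentation q' := by
    have : LocallyOfFinitePresentation (q' ≫ f) := by
      rw [h']
      infer_instance
    exact Groth.Agent.Ega43.FPOfComp.locallyOfFinitePresentation_of_comp q' f
  let eE := pullback.snd e₁ w
  let πE := pullback.fst e₁ w ≫ π₁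
  have hE : IsPullback eE πE (w ≫ b₁) I.subschemeι := hsq'.isPullback
  let fZ := pullback.fst I.subschemeι f
  let iT := pullback.snd I.subschemeι f
  have hT : IsPullback fZ iT I.subschemeι f := IsPullback.of_hasPullback _ _
  let fE := pullback.fst eE p'
  let eD := pullback.snd eE p'
  have hD : IsPullback fE eD eE p' := IsPullback.of_hasPullback _ _
  let πD : pullback eE p' ⟶ pullback I.subschemeι f := pullback.lift (fE ≫ πE) (eD ≫ q') (by
    rw [Category.assoc, ← hE.w, ← Category.assoc, hD.w, Category.assoc, ← h', Category.assoc])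
  have hπ1 : πD ≫ fZ = fE ≫ πE := pullback.lift_fst _ _ _
  have hπ2 : πD ≫ iT = eD ≫ q' := pullback.lift_snd _ _ _
  have hkT : iT.ker = I.comap f := by rw [ker_of_isPullback hT, hker]
  refine ⟨_, _, _, _, _, _, I.subschemeι, w ≫ b₁, eE, πE, iT, q', eD, πD, fZ, p', fE, hsq', ?_, hT, hD, h'.symm,
    hπ1, ?_, hfl, hfp⟩
  · refine mk_square ?_ ?_ ?_
    · have h1 : IsPullback eD (πD ≫ fZ) (q' ≫ f) I.subschemeι := by
        rw [hπ1, h']
        exact hD.flip.paste_vert hE
      exact IsPullback.of_bot h1 hπ2.symm hT.flip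
    · rw [hkT, ← Scheme.IdealSheafData.comap_comp, h', Scheme.IdealSheafData.comap_comp]
      have h1 := hsq'.locPrincipal
      rw [hker] at h1
      exact isLocPrincipal_comap h1 p'
    · intro T₀ t ht
      rw [hkT, ← Scheme.IdealSheafData.comap_comp] at ht
      obtain ⟨k, hk⟩ := hex T₀ t ht
      refine ⟨k, hk, fun m hm ↦ ?_⟩
      rw [← cancel_mono (pullback.lift q' p' h)]
      apply pullback.hom_ext
      · rw [Category.assoc, Category.assoc, pullback.lift_fst, hk]
        exact hm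
      · rw [Category.assoc, Category.assoc, pullback.lift_snd]
        have hu := univ_of_square hsq'
        rw [hker] at hu
        obtain ⟨l, -, hl⟩ := hu T₀ (t ≫ f) ht
        rw [hl (m ≫ p') ?_, hl (k ≫ p') ?_]
        · change (k ≫ p') ≫ w ≫ b₁ = t ≫ f
          rw [Category.assoc, ← h', ← Category.assoc, hk]
        · change (m ≫ p') ≫ w ≫ b₁ = t ≫ f
          rw [Category.assoc, ← h', ← Category.assoc]
          exact congrArg (· ≫ f) hm
  · rw [eq_bot_iff]
    intro z hz
    have h1 : I.subschemeι z ∈ (I.support : Set Y) := by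
      rw [← Scheme.IdealSheafData.range_subschemeι]
      exact ⟨z, rfl⟩
    exact (Set.disjoint_left.1 hadm.2 h1 hz).elim

end K346.AbFlat
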