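import Groth.Agent.S0591
import Groth.Agent.S0594
import Groth.Agent.S2075
import Groth.Agent.Smoothlim.LimBase

/-!
# Descending flat closed subschemes of a base change along a cofiltered limit (seat 346)
-/

set_option autoImplicit false
universe u

open CategoryTheory CategoryTheory.Limits AlgebraicGeometry

namespace K346.FamDescend

open Groth.Agent.Smoothlim.LimBase

variable {I : Type u} [SmallCategory I] [IsCofiltered I] (D : I ⥤ Scheme.{u}) (c : Cone D) (hc : IsLimit c)

set_option backward.isDefEq.respectTransparency false in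
omit [IsCofiltered I] in
theorem isPullback_pbDiag_map (i₀ : I) {Y : Scheme.{u}} (g : Y ⟶ D.obj i₀) {φ ψ : Over i₀} (a : φ ⟶ ψ) :
    IsPullback ((pbDiag D i₀ g).map a) (pullback.snd g (D.map φ.hom)) (pullback.snd g (D.map ψ.hom))
      (D.map a.left) := by
  have h1 : IsPullback (pullback.fst g (D.map ψ.hom)) (pullback.snd g (D.map ψ.hom)) g (D.map ψ.hom) :=
    IsPullback.of_hasPullback _ _
  have h2 : IsPullback (pullback.fst g (D.map φ.hom)) (pullback.snd g (D.map φ.hom)) g (D.map φ.hom) :=
    IsPullback.of_hasPullback _ _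
  refine IsPullback.of_right (h₁₂ := pullback.fst g (D.map ψ.hom)) (h₂₂ := D.map ψ.hom) (v₁₃ := g) ?_ ?_ h1
  · have e1 : (pbDiag D i₀ g).map a ≫ pullback.fst g (D.map ψ.hom) = pullback.fst g (D.map φ.hom) :=
      (pullback.lift_fst _ _ _).trans (Category.comp_id _)
    have e2 : D.map a.left ≫ D.map ψ.hom = D.map φ.hom := by rw [← D.map_comp, Over.w a]
    rw [e1, e2]
    exact h2
  · exact pullback.lift_snd _ _ _

set_option backward.isDefEq.respectTransparency false in
omit [IsCofiltered I] in
theorem isPullback_pbCone_π (i₀ : I) {Y : Scheme.{u}} (g : Y ⟶ D.obj i₀) {Y' : Scheme.{u}} (q : Y' ⟶ Y)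
    (g' : Y' ⟶ c.pt) (h : IsPullback q g' g (c.π.app i₀)) (φ : Over i₀) :
    IsPullback ((pbCone i₀ g c q g' h.toCommSq).π.app φ) g' (pullback.snd g (D.map φ.hom)) (c.π.app φ.left) := by
  have h1 : IsPullback (pullback.fst g (D.map φ.hom)) (pullback.snd g (D.map φ.hom)) g (D.map φ.hom) :=
    IsPullback.of_hasPullback _ _
  have h2 : IsPullback ((pbCone i₀ g c q g' h.toCommSq).π.app φ ≫ pullback.fst g (D.map φ.hom))
      g' g (c.π.app φ.left ≫ D.map φ.hom) := by simpa using h
  exact h2.of_right (by simp) h1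

set_option backward.isDefEq.respectTransparency false in
include hc in
/-- A flat finitely presented scheme over the limit which is a closed subscheme of a base change of a finitely
presented scheme `X ⟶ Y` descends to a finite level together with the closed immersion. -/
theorem exists_descend_family [hD : ∀ (i j : I) (f : i ⟶ j), IsClosedImmersion (D.map f)]
    [∀ i, CompactSpace (D.obj i)] [∀ i, QuasiSeparatedSpace (D.obj i)]
    {Y X : Scheme.{u}} (t : D ⟶ (Functor.const I).obj Y) (f : X ⟶ Y) [LocallyOfFinitePresentation f]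
    [QuasiCompact f] [QuasiSeparated f] {P : Scheme.{u}} (p : P ⟶ c.pt) [Flat p] [LocallyOfFinitePresentation p] [QuasiCompact p] [QuasiSeparated p]
    (q : P ⟶ X) (hq : ∀ i, q ≫ f = (p ≫ c.π.app i) ≫ t.app i)
    (hcl : ∀ i, IsClosedImmersion (pullback.lift q (p ≫ c.π.app i) (hq i))) :
    ∃ (i : I) (P' : Scheme.{u}) (p' : P' ⟶ D.obj i) (q' : P' ⟶ X) (g : P ⟶ P') (h : q' ≫ f = p' ≫ t.app i),
      IsPullback g p p' (c.π.app i) ∧ Flat p' ∧ LocallyOfFinitePresentation p' ∧ g ≫ q' = q ∧
      IsClosedImmersion (pullback.lift q' p' h) := by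
  have hDaff : ∀ {i j : I} (f : i ⟶ j), IsAffineHom (D.map f) := fun {i j} f ↦ inferInstance
  have hDaff' : ∀ (i j : I) (f : i ⟶ j), IsAffineHom (D.map f) := fun i j f ↦ inferInstance
  -- descend the scheme
  obtain ⟨i₀, P₀, p₀, g₀, _, _, _, pb₀⟩ := Groth.Agent.S0591.result D c hc P p
  have : CompactSpace P₀ := QuasiCompact.compactSpace_of_compactSpace p₀
  have : QuasiSeparatedSpace P₀ := quasiSeparatedSpace_of_quasiSeparated p₀
  obtain ⟨i₁, φ, X₁, Y₁, f₁, g₁, pY, pX, hA, hB, _⟩ := Groth.Agent.S2075.result D c hc i₀ p₀ (𝟙 _) p (𝟙 c.pt)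
    (c.π.app i₀) g₀ (IsPullback.of_vert_isIso ⟨by simp⟩) pb₀
  have : IsIso g₁ := by
    have h1 : MorphismProperty.isomorphisms Scheme.{u} g₁ :=
      MorphismProperty.of_isPullback hA (MorphismProperty.isomorphisms.infer_property (𝟙 _))
    exact h1
  have hP : IsPullback pX (f₁ ≫ g₁) p₀ (D.map φ) := by simpa using hB.paste_vert hA
  let p₁ : X₁ ⟶ D.obj i₁ := f₁ ≫ g₁
  have : LocallyOfFinitePresentation p₁ := MorphismProperty.of_isPullback hP inferInstance
  have : QuasiCompact p₁ := MorphismProperty.of_isPullback hP inferInstance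
  have : QuasiSeparated p₁ := MorphismProperty.of_isPullback hP inferInstance
  have : Flat p₁ := inferInstanceAs (Flat (f₁ ≫ g₁))
  let r : P ⟶ X₁ := hP.lift g₀ (p ≫ c.π.app i₁) (by rw [pb₀.w, Category.assoc, c.w])
  have hr : IsPullback r p p₁ (c.π.app i₁) := by
    refine IsPullback.of_right (h₁₂ := pX) (h₂₂ := D.map φ) (v₁₃ := p₀) ?_ (hP.lift_snd _ _ _) hP
    rw [hP.lift_fst, c.w]
    exact pb₀
  -- descend the morphism to `X`
  let E := pbDiag D i₁ p₁
  let cE := pbCone i₁ p₁ c r p hr.toCommSq
  have hcE : IsLimit cE := isLimitPbCone i₁ p₁ c hc r p hr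
  have hEmap : ∀ {φ ψ : Over i₁} (a : φ ⟶ ψ), IsClosedImmersion (E.map a) := fun {φ ψ} a ↦
    MorphismProperty.of_isPullback (isPullback_pbDiag_map D i₁ p₁ a).flip inferInstance
  have hE1 : ∀ j : Over i₁, CompactSpace (E.obj j) := fun j ↦
    QuasiCompact.compactSpace_of_compactSpace (pullback.snd p₁ (D.map j.hom))
  have hE2 : ∀ j : Over i₁, QuasiSeparatedSpace (E.obj j) := fun j ↦
    quasiSeparatedSpace_of_quasiSeparated (pullback.snd p₁ (D.map j.hom))
  have hEaff : ∀ {φ ψ : Over i₁} (a : φ ⟶ ψ), IsAffineHom (E.map a) := fun {φ ψ} a ↦ inferInstance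
  let tE : E ⟶ (Functor.const (Over i₁)).obj Y :=
    { app := fun j ↦ pullback.snd p₁ (D.map j.hom) ≫ t.app j.left
      naturality := fun φ ψ a ↦ by
        have h1 : D.map a.left ≫ t.app ψ.left = t.app φ.left := (t.naturality a.left).trans (Category.comp_id _)
        have h2 : E.map a ≫ pullback.snd p₁ (D.map ψ.hom) = pullback.snd p₁ (D.map φ.hom) ≫ D.map a.left :=
          pullback.lift_snd _ _ _
        rw [← Category.assoc, h2, Category.assoc, h1]
        exact (Category.comp_id _).symm }
  obtain ⟨j, g₂, hg₂, hg₂'⟩ := Scheme.exists_π_app_comp_eq_of_locallyOfFinitePresentation E tE f cE hcE q (by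
    ext j
    have h1 : cE.π.app j ≫ pullback.snd p₁ (D.map j.hom) = p ≫ c.π.app j.left := pullback.lift_snd _ _ _
    simp only [NatTrans.comp_app, Functor.const_map_app, tE]
    rw [reassoc_of% h1, hq j.left, Category.assoc])
  -- the morphism to the base change is a closed immersion at some stage
  have hs : g₂ ≫ f = pullback.snd p₁ (D.map j.hom) ≫ t.app j.left := hg₂'
  let s : E.obj j ⟶ pullback f (t.app j.left) := pullback.lift g₂ (pullback.snd p₁ (D.map j.hom)) hs
  have hs1 : s ≫ pullback.fst f (t.app j.left) = g₂ := pullback.lift_fst _ _ _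
  have hs2 : s ≫ pullback.snd f (t.app j.left) = pullback.snd p₁ (D.map j.hom) := pullback.lift_snd _ _ _
  have : LocallyOfFiniteType s := by
    have : LocallyOfFiniteType (s ≫ pullback.snd f (t.app j.left)) := by
      rw [hs2]
      infer_instance
    exact locallyOfFiniteType_of_comp s (pullback.snd f (t.app j.left))
  let E' : Over j ⥤ Scheme.{u} := Over.forget j ⋙ E
  let cE' : Cone E' := cE.whisker (Over.forget j)
  have hcE' : IsLimit cE' := (Functor.Initial.isLimitWhiskerEquiv (Over.forget j) cE).symm hcE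
  let tE' : E' ⟶ (Functor.const (Over j)).obj (pullback f (t.app j.left)) :=
    { app := fun k ↦ E.map k.hom ≫ s
      naturality := fun φ ψ a ↦ by
        change E.map a.left ≫ E.map ψ.hom ≫ s = (E.map φ.hom ≫ s) ≫ 𝟙 _
        rw [← Category.assoc, ← Functor.map_comp, Over.w a, Category.comp_id] }
  have hE3 : ∀ (k k' : Over j) (a : k ⟶ k'), IsClosedImmersion (E'.map a) := fun k k' a ↦ hEmap a.left
  have hE4 : ∀ k : Over j, CompactSpace (E'.obj k) := fun k ↦ hE1 k.left
  have hE5 : ∀ k : Over j, QuasiSeparatedSpace (E'.obj k) := fun k ↦ hE2 k.left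
  have hE6 : ∀ k : Over j, LocallyOfFiniteType (tE'.app k) := fun k ↦ by
    have := hEmap k.hom
    exact inferInstanceAs (LocallyOfFiniteType (E.map k.hom ≫ s))
  have : QuasiSeparatedSpace ↥(pullback f (t.app j.left)) :=
    quasiSeparatedSpace_of_quasiSeparated (pullback.snd f (t.app j.left))
  have : CompactSpace ↥(pullback f (t.app j.left)) :=
    QuasiCompact.compactSpace_of_compactSpace (pullback.snd f (t.app j.left))
  have hE7 : IsClosedImmersion (cE'.π.app (Over.mk (𝟙 j)) ≫ tE'.app (Over.mk (𝟙 j))) := by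
    have : cE'.π.app (Over.mk (𝟙 j)) ≫ tE'.app (Over.mk (𝟙 j)) = pullback.lift q (p ≫ c.π.app j.left) (hq j.left) := by
      change cE.π.app j ≫ E.map (𝟙 j) ≫ s = _
      rw [CategoryTheory.Functor.map_id, Category.id_comp]
      apply pullback.hom_ext
      · rw [Category.assoc, pullback.lift_fst, pullback.lift_fst, hg₂]
      · rw [Category.assoc, pullback.lift_snd, pullback.lift_snd]
        exact pullback.lift_snd _ _ _
    rw [this]
    exact hcl j.left
  obtain ⟨k, hk⟩ := Groth.Agent.S0594.result _ E' tE' cE' hcE' (Over.mk (𝟙 j))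
  have hk' : IsClosedImmersion (E.map k.hom ≫ s) := hk
  let q' : E.obj k.left ⟶ X := E.map k.hom ≫ g₂
  let p' : E.obj k.left ⟶ D.obj k.left.left := pullback.snd p₁ (D.map k.left.hom)
  have hmap : E.map k.hom ≫ pullback.snd p₁ (D.map j.hom) = p' ≫ D.map k.hom.left := pullback.lift_snd _ _ _
  have ht : D.map k.hom.left ≫ t.app j.left = t.app k.left.left := (t.naturality k.hom.left).trans (Category.comp_id _)
  have h : q' ≫ f = p' ≫ t.app k.left.left := by
    change (E.map k.hom ≫ g₂) ≫ f = _
    rw [Category.assoc, hs, reassoc_of% hmap, ht]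
  refine ⟨k.left.left, E.obj k.left, p', q', cE.π.app k.left, h, isPullback_pbCone_π D c i₁ p₁ r p hr k.left,
    inferInstanceAs (Flat (pullback.snd p₁ (D.map k.left.hom))),
    inferInstanceAs (LocallyOfFinitePresentation (pullback.snd p₁ (D.map k.left.hom))), ?_, ?_⟩
  · change cE.π.app k.left ≫ E.map k.hom ≫ g₂ = q
    rw [← Category.assoc, cE.w, hg₂]
  · let m : pullback f (t.app k.left.left) ⟶ pullback f (t.app j.left) :=
      pullback.map _ _ _ _ (𝟙 _) (D.map k.hom.left) (𝟙 _) (by simp) (by rw [ht]; exact Category.comp_id _)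
    have hm : IsClosedImmersion m := by
      have h1 : IsPullback m (pullback.snd f (t.app k.left.left)) (pullback.snd f (t.app j.left)) (D.map k.hom.left) := by
        refine IsPullback.of_right (h₁₂ := pullback.fst f (t.app j.left)) (h₂₂ := t.app j.left) (v₁₃ := f) ?_
          (pullback.lift_snd _ _ _) (IsPullback.of_hasPullback _ _)
        have e1 : m ≫ pullback.fst f (t.app j.left) = pullback.fst f (t.app k.left.left) :=
          (pullback.lift_fst _ _ _).trans (Category.comp_id _)
        rw [e1, ht]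
        exact IsPullback.of_hasPullback _ _
      exact MorphismProperty.of_isPullback h1.flip inferInstance
    have h2 : pullback.lift q' p' h ≫ m = E.map k.hom ≫ s := by
      apply pullback.hom_ext
      · rw [Category.assoc, Category.assoc, pullback.lift_fst, pullback.lift_fst_assoc, Category.comp_id, hs1]
      · rw [Category.assoc, Category.assoc, hs2, hmap, pullback.lift_snd, pullback.lift_snd_assoc]
    have : IsClosedImmersion (pullback.lift q' p' h ≫ m) := by
      rw [h2]
      exact hk'
    exact IsClosedImmersion.of_comp_isClosedImmersion _ m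

end K346.FamDescend
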