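import Mathlib.AlgebraicGeometry.Morphisms.Flat

/-!
# Flatness over an open subset of the target, via stalks (seat 346)
-/

set_option autoImplicit false
universe v u

open CategoryTheory CategoryTheory.Limits AlgebraicGeometry

namespace K346.FlatRestrict

variable {X Y Z : Scheme.{u}}

theorem respectsIso_flat : (RingHom.toMorphismProperty RingHom.Flat).RespectsIso :=
  RingHom.toMorphismProperty_respectsIso_iff.1 RingHom.Flat.respectsIso

attribute [local instance] respectsIso_flat

theorem flat_hom_iff_of_arrow_iso {A B A' B' : CommRingCat.{u}} (f : A ⟶ B) (g : A' ⟶ B')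
    (e : Arrow.mk f ≅ Arrow.mk g) : f.hom.Flat ↔ g.hom.Flat :=
  (RingHom.toMorphismProperty RingHom.Flat).arrow_mk_iso_iff e

/-- `f ∣_ U` is flat iff the stalk maps of `f` at points over `U` are flat. -/
theorem flat_morphismRestrict_iff (f : X ⟶ Y) (U : Y.Opens) :
    Flat (f ∣_ U) ↔ ∀ x : X, f x ∈ U → (f.stalkMap x).hom.Flat := by
  rw [Flat.iff_flat_stalkMap]
  constructor
  · intro h x hx
    exact (flat_hom_iff_of_arrow_iso _ _ (morphismRestrictStalkMap f U ⟨x, hx⟩)).1 (h ⟨x, hx⟩)
  · intro h x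
    exact (flat_hom_iff_of_arrow_iso _ _ (morphismRestrictStalkMap f U x)).2 (h x.1 x.2)

/-- Composition with an open immersion on the source does not change flatness of stalk maps. -/
theorem flat_stalkMap_comp_iff (j : Z ⟶ X) [IsOpenImmersion j] (f : X ⟶ Y) (z : Z) :
    ((j ≫ f).stalkMap z).hom.Flat ↔ (f.stalkMap (j z)).hom.Flat := by
  rw [Scheme.Hom.stalkMap_comp]
  exact (RingHom.toMorphismProperty RingHom.Flat).cancel_right_of_respectsIso _ _

theorem flat_morphismRestrict_sigmaDesc {ι : Type v} [Small.{u} ι] {E : ι → Scheme.{u}} (f : ∀ i, E i ⟶ Y)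
    (U : Y.Opens) (h : ∀ i, Flat (f i ∣_ U)) : Flat (Sigma.desc f ∣_ U) := by
  rw [flat_morphismRestrict_iff]
  intro x hx
  obtain ⟨i, y, rfl⟩ : ∃ (i : ι) (y : E i), Sigma.ι E i y = x := (sigmaOpenCover E).exists_eq x
  rw [← flat_stalkMap_comp_iff]
  have h1 : Sigma.ι E i ≫ Sigma.desc f = f i := Sigma.ι_desc _ _
  rw [← Scheme.Hom.comp_apply] at hx
  revert hx
  rw [h1]
  intro hx
  exact (flat_morphismRestrict_iff (f i) U).1 (h i) y hx

end K346.FlatRestrict
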