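import Groth.Agent.HTop.K343.EtLe
import Groth.Agent.HTop.K346.Site
import Groth.Agent.S8978

/-!
# Sheaf criterion for the big h site (seat 346)
-/

set_option autoImplicit false
universe w w' v u

open CategoryTheory CategoryTheory.Limits AlgebraicGeometry HTop Opposite

namespace K346.HSite

open K343.Topo

section Abstract

variable {C : Type u} [Category.{v} C] {P : Cᵒᵖ ⥤ Type w} {J : GrothendieckTopology C}

theorem map_comp' {X Y Z : C} (f : X ⟶ Y) (g : Y ⟶ Z) (z : P.obj (op Z)) :
    P.map (f ≫ g).op z = P.map f.op (P.map g.op z) := by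
  rw [op_comp, P.map_comp]
  rfl

theorem isSeparatedFor_of_local (hP : Presieve.IsSeparated J P) {Y : C} (R : Sieve Y) {ι : Type w'} (X : ι → C)
    (π : ∀ i, X i ⟶ Y) (hπ : Sieve.ofArrows X π ∈ J Y)
    (h1 : ∀ i, Presieve.IsSeparatedFor P (R.pullback (π i)).arrows) : Presieve.IsSeparatedFor P R.arrows := by
  intro x a b ha hb
  refine (hP _ hπ).ext ?_
  rintro Z _ ⟨_, g, _, ⟨i⟩, rfl⟩
  rw [map_comp', map_comp']
  congr 1
  refine (h1 i).ext fun W k hk ↦ ?_
  rw [← map_comp', ← map_comp', ha _ hk, hb _ hk]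

theorem isSheafFor_of_local (hP : Presieve.IsSheaf J P) {Y : C} (R : Sieve Y) {ι : Type w'} (X : ι → C)
    (π : ∀ i, X i ⟶ Y) (hπ : Sieve.ofArrows X π ∈ J Y)
    (h1 : ∀ i, Presieve.IsSheafFor P (R.pullback (π i)).arrows)
    (h2 : ∀ (W : C) (g : W ⟶ Y), Presieve.IsSeparatedFor P (R.pullback g).arrows) :
    Presieve.IsSheafFor P R.arrows := by
  intro x hx
  choose s hs huniq using fun i ↦ h1 i (x.pullback (π i)) (hx.pullback (π i))
  have hcomp : Presieve.Arrows.Compatible P π s := by
    intro i j Z gi gj hij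
    refine (h2 Z (gi ≫ π i)).ext fun W k hk ↦ ?_
    rw [← map_comp', ← map_comp']
    have hk1 : R.pullback (π i) (k ≫ gi) := by
      change R _
      rw [Category.assoc]
      exact hk
    have hk2 : R.pullback (π j) (k ≫ gj) := by
      change R _
      rw [Category.assoc, ← hij]
      exact hk
    rw [hs i _ hk1, hs j _ hk2]
    change x _ _ = x _ _
    congr 1
    rw [Category.assoc, Category.assoc, hij]
  have hsh : Presieve.IsSheafFor P (Presieve.ofArrows X π) := by
    rw [Presieve.isSheafFor_iff_generate]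
    exact hP _ hπ
  obtain ⟨t, ht, -⟩ := (Presieve.isSheafFor_arrows_iff _ _).1 hsh s hcomp
  refine ⟨t, fun Z k hk ↦ ?_, fun t' ht' ↦ ?_⟩
  · refine (hP.isSeparated _ (J.pullback_stable k hπ)).ext ?_
    rintro W h ⟨V, l, _, ⟨i⟩, hl⟩
    have e1 : P.map h.op (P.map k.op t) = P.map l.op (s i) := by
      rw [← map_comp', ← hl, map_comp', ht]
    have hk1 : R.pullback (π i) l := by
      change R _
      rw [hl]
      exact R.downward_closed hk _
    rw [e1, hs i _ hk1]
    change x _ _ = _
    have e2 : P.map h.op (x k hk) = x (h ≫ k) (R.downward_closed hk _) := by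
      have := hx h (𝟙 _) hk (R.downward_closed hk h) (by rw [Category.id_comp])
      rw [this, op_id, P.map_id]
      rfl
    rw [e2]
    congr 1
  · have h3 := h2 Y (𝟙 Y)
    rw [Sieve.pullback_id] at h3
    refine h3.ext fun W k hk ↦ ?_
    have e1 := ht' k hk
    rw [e1]
    -- the same verification as above
    symm
    refine (hP.isSeparated _ (J.pullback_stable k hπ)).ext ?_
    rintro W' h ⟨V, l, _, ⟨i⟩, hl⟩
    have e1 : P.map h.op (P.map k.op t) = P.map l.op (s i) := by
      rw [← map_comp', ← hl, map_comp', ht]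
    have hk1 : R.pullback (π i) l := by
      change R _
      rw [hl]
      exact R.downward_closed hk _
    rw [e1, hs i _ hk1]
    change x _ _ = _
    have e2 : P.map h.op (x k hk) = x (h ≫ k) (R.downward_closed hk _) := by
      have := hx h (𝟙 _) hk (R.downward_closed hk h) (by rw [Category.id_comp])
      rw [this, op_id, P.map_id]
      rfl
    rw [e2]
    congr 1

end Abstract

section Over

variable {S : Scheme.{u}}

theorem ofArrows_affineOpens_mem (Y : Over S) :
    Sieve.ofArrows (fun U : Y.left.affineOpens ↦ Over.mk ((U : Y.left.Opens).ι ≫ Y.hom))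
      (fun U ↦ hm Y (U : Y.left.Opens).ι) ∈ Scheme.zariskiTopology.over S Y := by
  rw [GrothendieckTopology.mem_over_iff, mem_zariski_iff]
  intro x
  obtain ⟨_, ⟨U, hU, rfl⟩, hx, -⟩ :=
    Y.left.isBasis_affineOpens.exists_subset_of_mem_open (Set.mem_univ x) isOpen_univ
  refine ⟨(U : Y.left.Opens), Scheme.Opens.ι U, ?_, inferInstance, by rwa [Scheme.Opens.range_ι]⟩
  rw [Sieve.overEquiv_iff]
  exact ⟨_, 𝟙 _, _, ⟨(⟨U, hU⟩ : Y.left.affineOpens)⟩, by ext; exact Category.id_comp _⟩

/-- For a Zariski sheaf, membership in `shTop` can be tested on affine schemes. -/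
theorem mem_shTop_of_affine (P : (Over S)ᵒᵖ ⥤ Type w) (hZ : Presieve.IsSheaf (Scheme.zariskiTopology.over S) P)
    {T : Scheme.{u}} (R : Sieve T)
    (h : ∀ (Y : Over S) (_ : IsAffine Y.left) (g : Y.left ⟶ T), Presieve.IsSheafFor P (ov Y (R.pullback g)).arrows) :
    R ∈ shTop P T := by
  have hsep : ∀ (Y : Over S) (g : Y.left ⟶ T), Presieve.IsSeparatedFor P (ov Y (R.pullback g)).arrows := by
    intro Y g
    refine isSeparatedFor_of_local hZ.isSeparated _ _ _ (ofArrows_affineOpens_mem Y) fun U ↦ ?_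
    rw [ov_pullback, ← Sieve.pullback_comp]
    exact (h (Over.mk ((U : Y.left.Opens).ι ≫ Y.hom)) U.2 _).isSeparatedFor
  intro Y g
  refine isSheafFor_of_local hZ _ _ _ (ofArrows_affineOpens_mem Y) (fun U ↦ ?_) fun W k ↦ ?_
  · rw [ov_pullback, ← Sieve.pullback_comp]
    exact h (Over.mk ((U : Y.left.Opens).ι ≫ Y.hom)) U.2 _
  · rw [ov_pullback, ← Sieve.pullback_comp]
    exact hsep _ _

/-- `hTopology ≤ L` as soon as `L` contains Zariski coverings and proper surjective morphisms of finite
presentation onto affine schemes. -/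
theorem hTopology_le (L : GrothendieckTopology Scheme.{u}) (hZ : Scheme.zariskiTopology ≤ L)
    (hP : ∀ {V U : Scheme.{u}} (f : V ⟶ U), IsAffine U → IsProper f → Surjective f →
      LocallyOfFinitePresentation f → Sieve.generate (Presieve.singleton f) ∈ L U) : HTop.hTopology ≤ L := by
  refine Precoverage.toGrothendieck_le_iff_le_toPrecoverage.2 ?_
  intro T R hR
  obtain ⟨E, hE, rfl⟩ := PreZeroHypercoverFamily.mem_precoverage_iff.1 hR
  change Sieve.generate E.presieve₀ ∈ L T
  apply mem_of_zariski_local L hZ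
  intro x
  obtain ⟨_, ⟨U, hU, rfl⟩, hx, -⟩ := T.isBasis_affineOpens.exists_subset_of_mem_open (Set.mem_univ x) isOpen_univ
  refine ⟨_, Scheme.Opens.ι U, inferInstance, by rwa [Scheme.Opens.range_ι], ?_⟩
  have : IsAffine (U : Scheme.{u}) := hU
  have hE' : IsHCover (E.pullback₁ (Scheme.Opens.ι U)) := by
    refine ⟨fun i ↦ ?_, K346.VStable.isVCover_pullback₁ _ E hE.2⟩
    have := hE.1 i
    exact inferInstanceAs (LocallyOfFinitePresentation (pullback.fst (Scheme.Opens.ι U) (E.f i)))
  obtain ⟨Y, g, n, V, h1, h2, h3, h4, h5, h6⟩ := Groth.Agent.S8978.result _ hE'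
  refine L.transitive (hP g inferInstance h1 h2 h3) _ ?_
  rintro W k ⟨W', k, _, ⟨⟩, rfl⟩
  rw [Sieve.pullback_comp]
  apply L.pullback_stable
  apply hZ
  rw [mem_zariski_iff]
  intro y
  have hy : y ∈ ⨆ j, V j := by rw [h5]; trivial
  obtain ⟨j, hj⟩ := TopologicalSpace.Opens.mem_iSup.1 hy
  obtain ⟨i, q, hq⟩ := h6 j
  refine ⟨V j, (V j).ι, ?_, inferInstance, by rwa [Scheme.Opens.range_ι]⟩
  change (V j : Scheme.{u}) ⟶ pullback (Scheme.Opens.ι U) (E.f i) at q
  change q ≫ pullback.fst (Scheme.Opens.ι U) (E.f i) = _ at hq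
  refine ⟨E.X i, q ≫ pullback.snd (Scheme.Opens.ι U) (E.f i), E.f i, ⟨i⟩, ?_⟩
  rw [Category.assoc, ← pullback.condition, ← Category.assoc, hq, Category.assoc]

/-- The sheaf criterion for the big h site. -/
theorem isSheaf_Jh_iff (P : (Over S)ᵒᵖ ⥤ Type w) : Presieve.IsSheaf (Jh S) P ↔
    (Presieve.IsSheaf (Scheme.zariskiTopology.over S) P ∧ ∀ (U V : Over S) (f : V ⟶ U), IsAffine U.left →
      IsProper f.left → Surjective f.left → LocallyOfFinitePresentation f.left →
        Presieve.IsSheafFor P (Presieve.singleton f)) := by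
  constructor
  · intro h
    refine ⟨fun Y R hR ↦ h R ?_, fun U V f _ h1 h2 h3 ↦ ?_⟩
    · rw [GrothendieckTopology.mem_over_iff] at hR ⊢
      exact K343.EtLe.zariski_le_h _ hR
    · exact K346.Site.isSheafFor_singleton_of_isHCover h f (K346.PhBasic.isHCover_singleton f.left)
  · rintro ⟨hZ, hP⟩
    refine isSheaf_of_le_shTop _ P (hTopology_le _ (le_shTop_of_isSheaf _ _ hZ) fun {V U} f h0 h1 h2 h3 ↦ ?_)
    refine mem_shTop_of_affine P hZ _ fun Y hY g ↦ ?_
    have h4 : ov Y ((Sieve.generate (Presieve.singleton f)).pullback g) =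
        Sieve.generate (Presieve.singleton (hm Y (pullback.snd f g))) := by
      ext Z k
      rw [generate_pullback_iff]
      constructor
      · rintro ⟨l, hl⟩
        exact ⟨_, l, _, ⟨⟩, hl⟩
      · rintro ⟨_, l, _, ⟨⟩, hl⟩
        exact ⟨l, hl⟩
    rw [h4, ← Presieve.isSheafFor_iff_generate]
    have h5 : IsProper (pullback.snd f g) := inferInstance
    have h6 : Surjective (pullback.snd f g) := inferInstance
    have h7 : LocallyOfFinitePresentation (pullback.snd f g) := inferInstance
    exact hP _ _ (hm Y (pullback.snd f g)) hY h5 h6 h7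

end Over

end K346.HSite
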