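import Groth.Agent.HTop.K346.PhStep
import Groth.Agent.Flat2G.FlatStratAlg

/-!
# Families of finitely presented morphisms with the closure lifting property are ph coverings (seat 346)
-/

set_option autoImplicit false
universe w w' u

open CategoryTheory CategoryTheory.Limits AlgebraicGeometry HTop TensorProduct

namespace K346.PhChain

open K346.ValLift K346.VCover K346.VStable K346.PhBasic K346.PhCrit K346.PhLocal K346.FlatRestrict K346.PhStep
open Groth.Agent.Flat2G.FlatStratAlg

/-- Every specialization is realized by a valuation ring. -/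
theorem exists_valuation_of_specializes {Y : Scheme.{u}} {y x : Y} (h : y ⤳ x) :
    ∃ (W : CommRingCat.{u}) (_ : IsDomain W) (_ : ValuationRing W) (g : Spec W ⟶ Y),
      g (cl W) = x ∧ g (gen W) = y := by
  let σ : Y.presheaf.stalk x ⟶ Y.residueField y :=
    Y.presheaf.stalkSpecializes h ≫ Y.residue y
  obtain ⟨A, hA, hA_local⟩ := IsLocalRing.exists_factor_valuationRing σ.hom
  let W : CommRingCat.{u} := .of A
  let τ : Y.presheaf.stalk x ⟶ W := CommRingCat.ofHom (σ.hom.codRestrict _ hA)
  have hτ : IsLocalHom τ.hom := hA_local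
  let ι : W ⟶ Y.residueField y := CommRingCat.ofHom (algebraMap A (Y.residueField y))
  have hι : Function.Injective ι.hom := Subtype.val_injective
  let g' : Spec W ⟶ Y := Spec.map τ ≫ Y.fromSpecStalk x
  have hfac : Y.fromSpecResidueField y = Spec.map ι ≫ g' := by
    rw [Scheme.fromSpecResidueField, ← Scheme.SpecMap_stalkSpecializes_fromSpecStalk h]
    simp_rw [g', ← Category.assoc, ← Spec.map_comp]
    rfl
  have hcl : g' (cl W) = x := by
    rw [Scheme.Hom.comp_apply, (map_cl_iff τ).2 hτ]
    exact Scheme.fromSpecStalk_closedPoint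
  have hgen : g' (gen W) = y := by
    rw [← (map_gen_iff ι).2 hι, ← Scheme.Hom.comp_apply, ← hfac]
    exact Scheme.fromSpecResidueField_apply y _
  exact ⟨W, inferInstanceAs (IsDomain A), inferInstanceAs (ValuationRing A), g', hcl, hgen⟩

/-- The lifting property for valuation rings implies the closure lifting property for quasi-compact opens. -/
theorem closureLift_of_hasValLift {T : Scheme.{u}} (E : PreZeroHypercover.{w} T) (hE : HasValLift E)
    (U : T.Opens) [QuasiCompact U.ι] : ClosureLift E U := by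
  intro S' b hb x hx
  have hqc : QuasiCompact (b ⁻¹ᵁ U).ι := by
    have := isPullback_morphismRestrict b U
    exact MorphismProperty.of_isPullback this inferInstance
  obtain ⟨u, hu⟩ := Groth.Agent.S2121.exists_specializes (b ⁻¹ᵁ U).ι x (by
    rw [Scheme.Opens.range_ι]; exact hx)
  obtain ⟨V, _, _, g, hgcl, hggen⟩ := exists_valuation_of_specializes hu
  obtain ⟨W, _, _, φ, hφ, j, g', hg'⟩ := hE V (g ≫ b)
  rw [isExtVal_iff] at hφ
  let h : Spec W ⟶ pullback b (E.f j) := pullback.lift (Spec.map φ ≫ g) g' (by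
    rw [hg', Category.assoc])
  have hfst : h ≫ pullback.fst b (E.f j) = Spec.map φ ≫ g := pullback.lift_fst _ _ _
  have hcl : pullback.fst b (E.f j) (h (cl W)) = x := by
    rw [← Scheme.Hom.comp_apply, hfst, Scheme.Hom.comp_apply, hφ.2, hgcl]
  have hgen : pullback.fst b (E.f j) (h (gen W)) = u.1 := by
    rw [← Scheme.Hom.comp_apply, hfst, Scheme.Hom.comp_apply, hφ.1, hggen]
    rfl
  refine ⟨j, h (cl W), hcl, ?_⟩
  have hsp : h (gen W) ⤳ h (cl W) := (gen_specializes W _).map h.continuous
  refine closure_mono ?_ (specializes_iff_mem_closure.1 hsp)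
  rw [Set.singleton_subset_iff]
  change pullback.fst b (E.f j) (h (gen W)) ∈ b ⁻¹ᵁ U
  rw [hgen]
  exact u.2

/-- Flatness over an open of the target, checked on an open cover of it. -/
theorem flat_morphismRestrict_of_cover {X Y : Scheme.{u}} (f : X ⟶ Y) (U : Y.Opens)
    (h : ∀ y ∈ U, ∃ (W : Scheme.{u}) (j : W ⟶ Y), IsOpenImmersion j ∧ y ∈ Set.range j ∧
      Flat (pullback.fst j f)) : Flat (f ∣_ U) := by
  rw [flat_morphismRestrict_iff]
  intro x hx
  obtain ⟨W, j, hj, ⟨y, hy⟩, hfl⟩ := h (f x) hx
  obtain ⟨w, -, hw⟩ := Scheme.Pullback.exists_preimage_pullback (f := j) (g := f) y x hy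
  rw [← hw, ← flat_stalkMap_comp_iff (pullback.snd j f) f w, ← pullback.condition]
  exact Flat.stalkMap _ _

/-- The complement of `V(J)` in `Spec A`. -/
def complV {A : CommRingCat.{u}} (J : Ideal A) : (Spec A).Opens :=
  ⟨(PrimeSpectrum.zeroLocus (J : Set A))ᶜ, (PrimeSpectrum.isClosed_zeroLocus _).isOpen_compl⟩

theorem isCompact_complV {A : CommRingCat.{u}} {J : Ideal A} (hJ : J.FG) :
    IsCompact (complV J : Set (Spec A)) :=
  (PrimeSpectrum.isRetrocompact_zeroLocus_compl_of_fg hJ).isCompact

theorem flat_of_flatOn {A : CommRingCat.{u}} {B : Type u} [CommRing B] [Algebra A B] (J : Ideal A)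
    (h : FlatOn A ⊥ J B) : Flat (Spec.map (CommRingCat.ofHom (algebraMap A B)) ∣_ (complV J)) := by
  refine flat_morphismRestrict_of_cover _ _ fun y hy ↦ ?_
  obtain ⟨c, hcJ, hcy⟩ : ∃ c ∈ J, c ∉ (y : PrimeSpectrum A).asIdeal := Set.not_subset.1 hy
  let C := Localization.Away c
  refine ⟨Spec (CommRingCat.of C), Spec.map (CommRingCat.ofHom (algebraMap A C)), inferInstance, ?_, ?_⟩
  · have h1 := PrimeSpectrum.localization_away_comap_range C c
    have h2 : y ∈ (PrimeSpectrum.basicOpen c : Set (PrimeSpectrum A)) := hcy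
    rw [← h1] at h2
    exact h2
  · have h1 : Module.Flat C (C ⊗[A] B) := by
      refine h C (Ideal.map_bot) ?_
      rw [Ideal.eq_top_iff_one]
      obtain ⟨u, hu⟩ := IsLocalization.Away.algebraMap_isUnit (S := C) c
      have h3 : (u⁻¹ : Cˣ) * algebraMap A C c ∈ J.map (algebraMap A C) :=
        Ideal.mul_mem_left _ _ (Ideal.mem_map_of_mem _ hcJ)
      rwa [← hu, Units.inv_mul] at h3
    have h2 : Flat (Spec.map (CommRingCat.ofHom (algebraMap C (C ⊗[A] B)))) := by
      rw [Flat.SpecMap_iff]
      exact (RingHom.flat_algebraMap_iff).2 h1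
    have h3 := pullbackSpecIso_hom_fst' A C B
    rw [← h3]
    infer_instance

end K346.PhChain
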