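import Groth.Agent.HTop.K346.PhBasic
import Groth.Agent.Ega2.SigmaMap

/-!
# Criteria for ph coverings (seat 346)
-/

set_option autoImplicit false
universe w w' u

open CategoryTheory CategoryTheory.Limits AlgebraicGeometry HTop

namespace K346.PhCrit

open K346.ValLift K346.VCover K346.VStable K346.PhBasic

variable {T : Scheme.{u}}

/-- A family of morphisms locally of finite type refined by a ph covering is a ph covering. -/
theorem isPhCover_of_refinesOver {F : PreZeroHypercover.{w'} T} {E : PreZeroHypercover.{w} T}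
    (hF : IsPhCover F) (h : RefinesOver (𝟙 T) F E) (hE : ∀ i, LocallyOfFiniteType (E.f i)) : IsPhCover E := by
  refine ⟨hE, fun U ↦ ?_⟩
  obtain ⟨G, hG, hGF⟩ := hF.2 U
  exact ⟨G, hG, by simpa using RefinesOver.trans hGF h⟩

/-- Finitely many affine opens covering a quasi-compact scheme, subordinate to a property of opens. -/
theorem exists_fin_affineOpen_cover_of (Y : Scheme.{u}) [CompactSpace Y] (P : Y.Opens → Prop)
    (hP : ∀ V W : Y.Opens, V ≤ W → P W → P V) (h : ∀ y : Y, ∃ V : Y.Opens, y ∈ V ∧ P V) :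
    ∃ (m : ℕ) (a : Fin m → Y.Opens), (∀ k, IsAffineOpen (a k)) ∧ (∀ k, P (a k)) ∧ ∀ y : Y, ∃ k, y ∈ a k := by
  have h1 : ∀ y : Y, ∃ W : Y.Opens, y ∈ W ∧ IsAffineOpen W ∧ P W := by
    intro y
    obtain ⟨V, hyV, hV⟩ := h y
    obtain ⟨_, ⟨W, hW, rfl⟩, hyW, hWV⟩ := (Y.isBasis_affineOpens).exists_subset_of_mem_open hyV V.isOpen
    exact ⟨W, hyW, hW, hP _ _ hWV hV⟩
  choose W hyW hW hPW using h1
  obtain ⟨t, ht⟩ := CompactSpace.elim_nhds_subcover (fun z ↦ ((W z : Y.Opens) : Set Y))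
    (fun z ↦ (W z : Y.Opens).isOpen.mem_nhds (hyW z))
  refine ⟨t.card, fun k ↦ W (t.equivFin.symm k), fun k ↦ hW _, fun k ↦ hPW _, fun z ↦ ?_⟩
  have hz : z ∈ ⋃ x ∈ t, ((W x : Y.Opens) : Set Y) := by rw [ht]; trivial
  simp only [Set.mem_iUnion] at hz
  obtain ⟨x, hx, hzx⟩ := hz
  exact ⟨t.equivFin ⟨x, hx⟩, by simpa using hzx⟩

/-- Criterion: a family through which, Zariski locally on its source, a proper surjective morphism factors. -/
theorem isPhCover_of_proper_local {E : PreZeroHypercover.{w} T} (hE : ∀ i, LocallyOfFiniteType (E.f i))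
    {Y : Scheme.{u}} (p : Y ⟶ T) [IsProper p] [Surjective p]
    (h : ∀ y : Y, ∃ V : Y.Opens, y ∈ V ∧ ∃ (i : E.I₀) (q : (V : Scheme.{u}) ⟶ E.X i), q ≫ E.f i = V.ι ≫ p) :
    IsPhCover E := by
  refine ⟨hE, fun U ↦ ?_⟩
  have : IsAffine ((U : T.Opens) : Scheme.{u}) := U.2
  let Y' := pullback (U : T.Opens).ι p
  have : CompactSpace Y' := QuasiCompact.compactSpace_of_compactSpace (pullback.fst (U : T.Opens).ι p)
  let P : Y'.Opens → Prop := fun V ↦
    ∃ (i : E.I₀) (q : (V : Scheme.{u}) ⟶ E.X i), q ≫ E.f i = (V.ι ≫ pullback.snd _ _) ≫ p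
  have hP1 : ∀ V W : Y'.Opens, V ≤ W → P W → P V := by
    rintro V W hVW ⟨i, q, hq⟩
    refine ⟨i, Y'.homOfLE hVW ≫ q, ?_⟩
    rw [Category.assoc, hq, ← Category.assoc, ← Category.assoc, Scheme.homOfLE_ι]
  have hP2 : ∀ y : Y', ∃ V : Y'.Opens, y ∈ V ∧ P V := by
    intro y
    obtain ⟨V, hyV, i, q, hq⟩ := h (pullback.snd (U : T.Opens).ι p y)
    refine ⟨(pullback.snd (U : T.Opens).ι p) ⁻¹ᵁ V, hyV, i, (pullback.snd (U : T.Opens).ι p ∣_ V) ≫ q, ?_⟩
    rw [Category.assoc, hq, ← Category.assoc, morphismRestrict_ι]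
  obtain ⟨m, a, ha, haP, hcov⟩ := exists_fin_affineOpen_cover_of Y' P hP1 hP2
  refine ⟨openPieces (pullback.fst (U : T.Opens).ι p) a,
    isStandardPh_openPieces (pullback.fst (U : T.Opens).ι p) a ha hcov, fun k ↦ ?_⟩
  obtain ⟨i, q, hq⟩ := haP k
  refine ⟨i, q, hq.trans ?_⟩
  change _ = ((a k).ι ≫ pullback.fst (U : T.Opens).ι p) ≫ (U : T.Opens).ι
  rw [Category.assoc, Category.assoc, pullback.condition]

/-- A finite jointly surjective family of proper morphisms to an affine scheme `Spec A` is a ph covering. -/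
theorem isPhCover_of_finite_proper_Spec {A : CommRingCat.{u}} (E : PreZeroHypercover.{w} (Spec A))
    [Finite E.I₀] (hp : ∀ i, IsProper (E.f i)) (hs : ∀ x : ↥(Spec A), ∃ (i : E.I₀) (y : E.X i), E.f i y = x) :
    IsPhCover E := by
  obtain ⟨n, ⟨e⟩⟩ := Finite.exists_equiv_fin E.I₀
  let X : ULift.{u} (Fin n) → Scheme.{u} := fun k ↦ E.X (e.symm k.down)
  let f : ∀ k, X k ⟶ Spec A := fun k ↦ E.f (e.symm k.down)
  have h1 : IsProper (Sigma.desc f) := Groth.Agent.Ega2.SigmaMap.isProper_sigmaDesc f fun k ↦ hp _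
  have h2 : Surjective (Sigma.desc f) := by
    apply Surjective.sigmaDesc_of_union_range_eq_univ
    rw [Set.eq_univ_iff_forall]
    intro x
    obtain ⟨i, y, hy⟩ := hs x
    rw [Set.mem_iUnion]
    obtain ⟨k, rfl⟩ := e.symm.surjective i
    exact ⟨⟨k⟩, y, hy⟩
  refine isPhCover_of_proper_local (fun i ↦ (hp i).toLocallyOfFiniteType) (Sigma.desc f) fun y ↦ ?_
  have h3 : ∀ k, (Sigma.ι X k).isoOpensRange.inv ≫ E.f (e.symm k.down) =
      (Sigma.ι X k).opensRange.ι ≫ Sigma.desc f := by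
    intro k
    have h3 : (Sigma.ι X k).isoOpensRange.inv ≫ Sigma.ι X k = (Sigma.ι X k).opensRange.ι := by
      rw [Iso.inv_comp_eq, Scheme.Hom.isoOpensRange_hom_ι]
    rw [← h3, Category.assoc, Sigma.ι_desc]
  obtain ⟨k, x, hx⟩ := (sigmaOpenCover X).exists_eq y
  exact ⟨(Sigma.ι X k).opensRange, ⟨x, hx⟩, e.symm k.down, (Sigma.ι X k).isoOpensRange.inv, h3 k⟩

end K346.PhCrit
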