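import Groth.Agent.HTop.K346.PhCrit
import Groth.Agent.S7481
import Groth.Agent.S7480
import Groth.Agent.S7190

/-!
# ph coverings: local nature, and flat coverings (seat 346)
-/

set_option autoImplicit false
universe w w' u

open CategoryTheory CategoryTheory.Limits AlgebraicGeometry HTop

namespace K346.PhLocal

open K346.ValLift K346.VCover K346.VStable K346.PhBasic K346.PhCrit

variable {T : Scheme.{u}}

theorem isPhCover_bind (E : PreZeroHypercover.{w} T) (hE : IsPhCover E)
    (F : ∀ i, PreZeroHypercover.{w} (E.X i)) (hF : ∀ i, IsPhCover (F i)) : IsPhCover (E.bind F) :=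
  Groth.Agent.S7481.result E hE F hF

theorem isPhCover_of_flat (E : PreZeroHypercover.{w} T)
    (hflat : ∀ i, Flat (E.f i)) (hfp : ∀ i, LocallyOfFinitePresentation (E.f i))
    (hsurj : ∀ t : T, ∃ (i : E.I₀) (x : E.X i), E.f i x = t) : IsPhCover E :=
  Groth.Agent.S7190.result E hflat hfp hsurj

/-- Being a ph covering is local for the ph topology. -/
theorem isPhCover_of_local {G : PreZeroHypercover.{w'} T} (hG : IsPhCover G) {E : PreZeroHypercover.{w} T}
    (hE : ∀ i, LocallyOfFiniteType (E.f i))
    (h : ∀ k, ∃ H : PreZeroHypercover.{w'} (G.X k), IsPhCover H ∧ RefinesOver (G.f k) H E) : IsPhCover E := by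
  choose H hH hHE using h
  refine isPhCover_of_refinesOver (isPhCover_bind G hG H hH) ?_ hE
  rintro ⟨k, j⟩
  obtain ⟨i, q, hq⟩ := hHE k j
  exact ⟨i, q, hq.trans (Category.comp_id _).symm⟩

end K346.PhLocal
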