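import Groth.Agent.HTop.K346.PhChain

/-!
# Families of finitely presented morphisms with the closure lifting property are ph coverings (seat 346)
-/

set_option autoImplicit false
universe w w' u

open CategoryTheory CategoryTheory.Limits AlgebraicGeometry HTop TensorProduct

namespace K346.PhMain

open K346.ValLift K346.VCover K346.VStable K346.PhBasic K346.PhCrit K346.PhLocal K346.FlatRestrict K346.PhStep
open K346.PhChain Groth.Agent.Flat2G.FlatStratAlg

theorem isPhCover_of_isEmpty {T : Scheme.{u}} [IsEmpty T] (E : PreZeroHypercover.{w} T)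
    (hE : ∀ i, LocallyOfFiniteType (E.f i)) : IsPhCover E :=
  isPhCover_of_proper_local hE (𝟙 T) fun y ↦ isEmptyElim y

section

variable (A : Type u) [CommRing A] {I : Type} (B : I → Type u) [∀ i, CommRing (B i)] [∀ i, Algebra A (B i)]

/-- The family `Spec (B i) ⟶ Spec A`. -/
noncomputable def fam : PreZeroHypercover.{0} (Spec (CommRingCat.of A)) where
  I₀ := I
  X i := Spec (CommRingCat.of (B i))
  f i := Spec.map (CommRingCat.ofHom (algebraMap A (B i)))

theorem isPullback_fam (A' : Type u) [CommRing A'] [Algebra A A'] (i : I) :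
    IsPullback (Spec.map (CommRingCat.ofHom (Algebra.TensorProduct.includeRight (R := A) (A := A')
      (B := B i)).toRingHom)) ((fam A' (fun i ↦ A' ⊗[A] B i)).f i) ((fam A B).f i)
      (Spec.map (CommRingCat.ofHom (algebraMap A A'))) := by
  refine IsPullback.of_iso_pullback ⟨?_⟩ ((pullbackSpecIso A A' (B i)).symm ≪≫ pullbackSymmetry _ _) ?_ ?_
  · change Spec.map _ ≫ Spec.map _ = Spec.map _ ≫ Spec.map _
    rw [← Spec.map_comp, ← Spec.map_comp, ← CommRingCat.ofHom_comp, ← CommRingCat.ofHom_comp]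
    congr 2
    ext a
    simp [Algebra.TensorProduct.algebraMap_apply]
  · rw [Iso.trans_hom, Category.assoc]
    erw [pullbackSymmetry_hom_comp_fst]
    exact pullbackSpecIso_inv_snd A A' (B i)
  · rw [Iso.trans_hom, Category.assoc]
    erw [pullbackSymmetry_hom_comp_snd]
    exact pullbackSpecIso_inv_fst' A A' (B i)

theorem hasValLift_fam (h : HasValLift (fam A B)) (A' : Type u) [CommRing A'] [Algebra A A'] :
    HasValLift (fam A' (fun i ↦ A' ⊗[A] B i)) :=
  HasValLift.of_isPullback (Spec.map (CommRingCat.ofHom (algebraMap A A'))) h _ _ _ (isPullback_fam A B A')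

/-- The hypothesis of the main theorem. -/
def CL : Prop := ∀ (𝔞 : Ideal A) (J : Ideal (A ⧸ 𝔞)), J.FG →
  ClosureLift (fam (A ⧸ 𝔞) (fun i ↦ (A ⧸ 𝔞) ⊗[A] B i)) (complV (A := CommRingCat.of (A ⧸ 𝔞)) J)

theorem CL_of_hasValLift (h : HasValLift (fam A B)) : CL A B := by
  intro 𝔞 J hJ
  have : QuasiCompact (complV (A := CommRingCat.of (A ⧸ 𝔞)) J).ι := by
    have h1 := isCompact_complV (A := CommRingCat.of (A ⧸ 𝔞)) hJ
    have h2 : CompactSpace ↥(complV (A := CommRingCat.of (A ⧸ 𝔞)) J) := isCompact_iff_compactSpace.1 h1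
    have h3 : CompactSpace ↥((complV (A := CommRingCat.of (A ⧸ 𝔞)) J : _) : Scheme.{u}) := h2
    infer_instance
  exact closureLift_of_hasValLift _ (hasValLift_fam A B h (A ⧸ 𝔞)) _

variable {A B} in
theorem refinesOver_fam {A' A'' : Type u} [CommRing A'] [CommRing A''] [Algebra A A'] [Algebra A A'']
    (φ : A' →ₐ[A] A'') : RefinesOver (Spec.map (CommRingCat.ofHom φ.toRingHom))
      (fam A'' (fun i ↦ A'' ⊗[A] B i)) (fam A' (fun i ↦ A' ⊗[A] B i)) := by
  intro i
  refine ⟨i, Spec.map (CommRingCat.ofHom (Algebra.TensorProduct.map φ (AlgHom.id A (B i))).toRingHom), ?_⟩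
  change Spec.map _ ≫ Spec.map _ = Spec.map _ ≫ Spec.map _
  rw [← Spec.map_comp, ← Spec.map_comp, ← CommRingCat.ofHom_comp, ← CommRingCat.ofHom_comp]
  congr 2

variable {A B} in
theorem refinesOver_fam' {A' : Type u} [CommRing A'] [Algebra A A'] :
    RefinesOver (Spec.map (CommRingCat.ofHom (algebraMap A A')))
      (fam A' (fun i ↦ A' ⊗[A] B i)) (fam A B) := by
  intro i
  exact ⟨i, _, (isPullback_fam A B A' i).w⟩

end

section

variable (A : Type u) [CommRing A] {I : Type} [Finite I] (B : I → Type u) [∀ i, CommRing (B i)]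
  [∀ i, Algebra A (B i)] [∀ i, Algebra.FinitePresentation A (B i)]

omit [Finite I] in
theorem lfp_fam (i : I) : LocallyOfFinitePresentation ((fam A B).f i) := by
  change LocallyOfFinitePresentation (Spec.map (CommRingCat.ofHom (algebraMap A (B i))))
  rw [HasRingHomProperty.Spec_iff (P := @LocallyOfFinitePresentation)]
  exact RingHom.finitePresentation_algebraMap.2 inferInstance

omit [Finite I] in
theorem lft_fam (i : I) : LocallyOfFiniteType ((fam A B).f i) := by
  have := lfp_fam A B i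
  infer_instance

theorem isPhCover_quot_step {𝔞 𝔟 : Ideal A} (h𝔞𝔟 : 𝔞 ≤ 𝔟) (h𝔟 : 𝔟.FG) (hCL : CL A B)
    (hfl : ∀ i, FlatOn A 𝔞 𝔟 (B i)) (h : IsPhCover (fam (A ⧸ 𝔟) (fun i ↦ (A ⧸ 𝔟) ⊗[A] B i))) :
    IsPhCover (fam (A ⧸ 𝔞) (fun i ↦ (A ⧸ 𝔞) ⊗[A] B i)) := by
  let J : Ideal (A ⧸ 𝔞) := 𝔟.map (algebraMap A (A ⧸ 𝔞))
  have hJ : J.FG := h𝔟.map _
  have hfl' : ∀ i, Flat ((fam (A ⧸ 𝔞) (fun i ↦ (A ⧸ 𝔞) ⊗[A] B i)).f i ∣_
      (complV (A := CommRingCat.of (A ⧸ 𝔞)) J)) := by
    intro i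
    refine flat_of_flatOn (A := CommRingCat.of (A ⧸ 𝔞)) (B := (A ⧸ 𝔞) ⊗[A] B i) J ?_
    have h1 := (hfl i).baseChange (A' := A ⧸ 𝔞)
    have h2 : 𝔞.map (algebraMap A (A ⧸ 𝔞)) = ⊥ := Ideal.map_quotient_self 𝔞
    rw [h2] at h1
    exact h1
  have : Finite (fam (A ⧸ 𝔞) (fun i ↦ (A ⧸ 𝔞) ⊗[A] B i)).I₀ := inferInstanceAs (Finite I)
  obtain ⟨S', C, b, c, hb, hc, hcov, H, hH, hHE⟩ := PhStep.main (A := CommRingCat.of (A ⧸ 𝔞))
    (fam (A ⧸ 𝔞) (fun i ↦ (A ⧸ 𝔞) ⊗[A] B i)) (fun i ↦ inferInstanceAs (IsAffine (Spec _)))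
    (fun i ↦ lfp_fam _ _ i) (complV (A := CommRingCat.of (A ⧸ 𝔞)) J) (isCompact_complV hJ) hfl' (hCL 𝔞 J hJ)
  let φ : (A ⧸ 𝔞) →ₐ[A] (A ⧸ 𝔟) := Ideal.Quotient.factorₐ A h𝔞𝔟
  have hφ : Function.Surjective φ.toRingHom := Ideal.Quotient.factor_surjective h𝔞𝔟
  let z := Spec.map (CommRingCat.ofHom φ.toRingHom)
  have hz : IsClosedImmersion z := IsClosedImmersion.spec_of_surjective _ hφ
  have hker : RingHom.ker φ.toRingHom = J := Ideal.Quotient.factor_ker h𝔞𝔟
  have hrange : Set.range z = (PrimeSpectrum.zeroLocus (J : Set (A ⧸ 𝔞)) : Set (PrimeSpectrum (A ⧸ 𝔞))) := by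
    rw [← hker]
    exact _root_.range_comap_of_surjective _ _ hφ
  let G : PreZeroHypercover.{0} (Spec (CommRingCat.of (A ⧸ 𝔞))) :=
    (PreZeroHypercover.singleton.{0} (c ≫ b)).sum (PreZeroHypercover.singleton.{0} z)
  have hG : IsPhCover G := by
    have : Finite G.I₀ := inferInstanceAs (Finite (PUnit ⊕ PUnit))
    refine isPhCover_of_finite_proper_Spec G ?_ ?_
    · rintro (_ | _)
      · exact inferInstanceAs (IsProper (c ≫ b))
      · exact inferInstanceAs (IsProper z)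
    · intro x
      by_cases hx : x ∈ complV (A := CommRingCat.of (A ⧸ 𝔞)) J
      · obtain ⟨y, hy⟩ := hcov x hx
        exact ⟨Sum.inl PUnit.unit, y, (Scheme.Hom.comp_apply c b y).trans hy⟩
      · have hx' : x ∈ Set.range z := by
          rw [hrange]
          exact not_not.1 hx
        obtain ⟨y, hy⟩ := hx'
        exact ⟨Sum.inr PUnit.unit, y, hy⟩
  refine isPhCover_of_local hG (fun i ↦ lft_fam _ _ i) ?_
  rintro (_ | _)
  · exact ⟨H, hH, hHE⟩
  · exact ⟨_, h, refinesOver_fam φ⟩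

theorem isPhCover_fam (hCL : CL A B) : IsPhCover (fam A B) := by
  obtain ⟨t, H, hmono, hlast, hfg, hnil, hfl⟩ := exists_flat_chain (A := A) (B := B) (M := B)
  have key : ∀ i, IsPhCover (fam (A ⧸ H i) (fun k ↦ (A ⧸ H i) ⊗[A] B k)) := by
    intro i
    induction i using Fin.reverseInduction with
    | last =>
      have : IsEmpty ↥(Spec (CommRingCat.of (A ⧸ H (Fin.last t)))) := by
        have : Subsingleton (A ⧸ H (Fin.last t)) := Ideal.Quotient.subsingleton_iff.2 hlast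
        exact inferInstanceAs (IsEmpty (PrimeSpectrum (A ⧸ H (Fin.last t))))
      exact isPhCover_of_isEmpty _ fun i ↦ lft_fam _ _ i
    | cast i ih =>
      exact isPhCover_quot_step A B (hmono i.castSucc_le_succ) (hfg _) hCL (hfl i) ih
  let z := Spec.map (CommRingCat.ofHom (algebraMap A (A ⧸ H 0)))
  have hz : IsClosedImmersion z := IsClosedImmersion.spec_of_surjective _ Ideal.Quotient.mk_surjective
  have hs : Surjective z := by
    refine ⟨fun x ↦ ?_⟩
    have h1 : Set.range z = (PrimeSpectrum.zeroLocus (RingHom.ker (algebraMap A (A ⧸ H 0)) : Set A) :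
      Set (PrimeSpectrum A)) := _root_.range_comap_of_surjective _ _ Ideal.Quotient.mk_surjective
    have h2 : x ∈ Set.range z := by
      rw [h1]
      have h3 : RingHom.ker (algebraMap A (A ⧸ H 0)) = H 0 := Ideal.mk_ker
      rw [h3]
      exact hnil.trans (nilradical_le_prime (x : PrimeSpectrum A).asIdeal)
    exact h2
  exact isPhCover_of_local (isPhCover_singleton.{0} z) (fun i ↦ lft_fam _ _ i)
    fun _ ↦ ⟨_, key 0, refinesOver_fam'⟩

end

end K346.PhMain
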