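import Groth.Agent.HTop.K346.PhLocal
import Groth.Agent.HTop.K346.FlatRestrict
import Groth.Agent.Flat2C.StrictTr2
import Groth.Agent.S2121
import Groth.Agent.Flat2C.BlowProper
import Groth.Agent.S1273

/-!
# The flattening step in the proof that (lfp) V coverings are ph coverings (seat 346)
-/

set_option autoImplicit false
universe w w' u

open CategoryTheory CategoryTheory.Limits AlgebraicGeometry HTop

namespace K346.PhStep

open K346.ValLift K346.VCover K346.VStable K346.PhBasic K346.PhCrit K346.PhLocal K346.FlatRestrict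
open Groth.Agent.Flat2C.StrictTr Groth.Agent.Flat2C.StrictTr2

/-- The geometric input: over every point in the closure of the part over `U` of a proper scheme over the base there is
a point of the pulled back family in the closure of the part over `U`. -/
def ClosureLift {T : Scheme.{u}} (E : PreZeroHypercover.{w} T) (U : T.Opens) : Prop :=
  ∀ (S' : Scheme.{u}) (b : S' ⟶ T), IsProper b → ∀ x : S', x ∈ closure ((b ⁻¹ᵁ U : S'.Opens) : Set S') →
    ∃ (i : E.I₀) (y : ↥(pullback b (E.f i))), pullback.fst b (E.f i) y = x ∧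
      y ∈ closure (((pullback.fst b (E.f i)) ⁻¹ᵁ (b ⁻¹ᵁ U) : (pullback b (E.f i)).Opens) : Set _)

theorem main {A : CommRingCat.{u}} (E : PreZeroHypercover.{0} (Spec A)) [Finite E.I₀]
    (haff : ∀ i, IsAffine (E.X i)) (hfp : ∀ i, LocallyOfFinitePresentation (E.f i))
    (U : (Spec A).Opens) (hU : IsCompact (U : Set (Spec A))) (hfl : ∀ i, Flat (E.f i ∣_ U))
    (hcl : ClosureLift E U) :
    ∃ (S' C : Scheme.{u}) (b : S' ⟶ Spec A) (c : C ⟶ S') (_ : IsProper b) (_ : IsClosedImmersion c),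
      (∀ x ∈ U, ∃ z : C, b (c z) = x) ∧
      ∃ H : PreZeroHypercover.{0} C, IsPhCover H ∧ RefinesOver (c ≫ b) H E := by
  let f : ∐ E.X ⟶ Spec A := Sigma.desc E.f
  have hlfp : LocallyOfFinitePresentation f := IsZariskiLocalAtSource.sigmaDesc hfp
  have hflU : Flat (f ∣_ U) := flat_morphismRestrict_sigmaDesc E.f U hfl
  have : LocallyOfFinitePresentation (f ∣_ U) := inferInstance
  have : QuasiCompact f := inferInstance
  have : QuasiSeparated f := inferInstance
  obtain ⟨I, S', b, hb, hadm, hmain⟩ := Groth.Agent.S1273.result f U hU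
  have hbp : IsProper b := Groth.Agent.Flat2C.BlowProper.isProper_of_isBlowUp hb hadm.1
  have hUI : U ≤ compl I := fun x hx hx' ↦ Set.disjoint_left.1 hadm.2 hx' hx
  have hiso : IsIso (b ∣_ U) := isIso_restrict_of_le_compl hb hUI
  let p₁ : pullback f b ⟶ ∐ E.X := pullback.fst f b
  let p₂ : pullback f b ⟶ S' := pullback.snd f b
  have hw : p₁ ≫ f = p₂ ≫ b := pullback.condition
  let 𝓔 := (I.comap f).comap p₁
  have hft : BlowUp.IsFiniteTypeIdeal 𝓔 := isFiniteTypeIdeal_comap (isFiniteTypeIdeal_comap hadm.1 f) p₁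
  let J := killedIdeal 𝓔
  obtain ⟨hJfl, hJfp, -, -⟩ := hmain _ p₁ p₂ (IsPullback.of_hasPullback f b) J (isKilledIdeal_killedIdeal hft)
  -- the closure of the part over `U`
  let Z : TopologicalSpace.Closeds S' := ⟨closure ((b ⁻¹ᵁ U : S'.Opens) : Set S'), isClosed_closure⟩
  let c : (Scheme.IdealSheafData.vanishingIdeal Z).subscheme ⟶ S' :=
    (Scheme.IdealSheafData.vanishingIdeal Z).subschemeι
  have hc : Set.range c = closure ((b ⁻¹ᵁ U : S'.Opens) : Set S') := by
    rw [Scheme.IdealSheafData.range_subschemeι, Scheme.IdealSheafData.coe_support_vanishingIdeal]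
    rfl
  have hJcl : ∀ y : ↥(pullback f b), y ∈ closure ((p₂ ⁻¹ᵁ (b ⁻¹ᵁ U) : (pullback f b).Opens) : Set _) →
      ∃ z : J.subscheme, J.subschemeι z = y := by
    intro y hy
    have h1 : y ∈ (J.support : Set _) := by
      rw [coe_support_killedIdeal hft]
      refine closure_mono (fun z hz ↦ ?_) hy
      change z ∈ compl 𝓔
      rw [compl_comap, compl_comap, ← Scheme.Hom.comp_preimage, hw, Scheme.Hom.comp_preimage]
      exact hUI hz
    rw [← Scheme.IdealSheafData.range_subschemeι] at h1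
    exact h1
  let s : J.subscheme ⟶ S' := J.subschemeι ≫ p₂
  let r : J.subscheme ⟶ ∐ E.X := J.subschemeι ≫ p₁
  have hrs : r ≫ f = s ≫ b := by rw [Category.assoc, Category.assoc, hw]
  let O : E.I₀ → J.subscheme.Opens := fun i ↦ r ⁻¹ᵁ (Sigma.ι E.X i).opensRange
  have hO : ∀ i, ∃ q : ((O i : J.subscheme.Opens) : Scheme.{u}) ⟶ E.X i, q ≫ E.f i = ((O i).ι ≫ s) ≫ b := by
    intro i
    have h1 : Set.range ((O i).ι ≫ r) ⊆ Set.range (Sigma.ι E.X i) := by
      rintro _ ⟨z, rfl⟩
      exact z.2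
    refine ⟨IsOpenImmersion.lift (Sigma.ι E.X i) ((O i).ι ≫ r) h1, ?_⟩
    have h2 : Sigma.ι E.X i ≫ f = E.f i := Sigma.ι_desc _ _
    rw [← h2, ← Category.assoc, IsOpenImmersion.lift_fac, Category.assoc, hrs]
    simp only [Category.assoc]
  refine ⟨S', _, b, c, hbp, inferInstance, fun x hx ↦ ?_,
    ⟨E.I₀, fun i ↦ pullback c ((O i).ι ≫ s), fun i ↦ pullback.fst c ((O i).ι ≫ s)⟩,
    isPhCover_of_flat _ (fun i ↦ ?_) (fun i ↦ ?_) (fun x ↦ ?_), fun i ↦ ?_⟩
  · obtain ⟨z, hz⟩ := (b ∣_ U).surjective ⟨x, hx⟩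
    have h1 : b z.1 = x := by
      have h2 : U.ι ((b ∣_ U) z) = x := by rw [hz]; rfl
      rwa [← Scheme.Hom.comp_apply, morphismRestrict_ι, Scheme.Hom.comp_apply] at h2
    have h3 : z.1 ∈ Set.range c := by rw [hc]; exact subset_closure z.2
    obtain ⟨w, hw⟩ := h3
    exact ⟨w, by rw [hw, h1]⟩
  · change Flat (pullback.fst c ((O i).ι ≫ s))
    infer_instance
  · change LocallyOfFinitePresentation (pullback.fst c ((O i).ι ≫ s))
    infer_instance
  · have hx : c x ∈ closure ((b ⁻¹ᵁ U : S'.Opens) : Set S') := by rw [← hc]; exact ⟨x, rfl⟩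
    obtain ⟨i, y, hy, hycl⟩ := hcl S' b hbp (c x) hx
    let m : pullback b (E.f i) ⟶ pullback f b :=
      pullback.lift (pullback.snd b (E.f i) ≫ Sigma.ι E.X i) (pullback.fst b (E.f i)) (by
        rw [Category.assoc, Sigma.ι_desc, pullback.condition])
    have hm1 : m ≫ p₁ = pullback.snd b (E.f i) ≫ Sigma.ι E.X i := pullback.lift_fst _ _ _
    have hm2 : m ≫ p₂ = pullback.fst b (E.f i) := pullback.lift_snd _ _ _
    have hmy : m y ∈ closure ((p₂ ⁻¹ᵁ (b ⁻¹ᵁ U) : (pullback f b).Opens) : Set _) := by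
      refine map_mem_closure m.continuous hycl fun z hz ↦ ?_
      have h5 : p₂ (m z) = pullback.fst b (E.f i) z := by rw [← Scheme.Hom.comp_apply, hm2]
      change p₂ (m z) ∈ b ⁻¹ᵁ U
      rw [h5]
      exact hz
    obtain ⟨z, hz⟩ := hJcl _ hmy
    have hsz : s z = c x := by
      rw [Scheme.Hom.comp_apply, hz, ← Scheme.Hom.comp_apply, hm2, hy]
    have hrz : z ∈ O i := by
      refine ⟨pullback.snd b (E.f i) y, ?_⟩
      rw [Scheme.Hom.comp_apply, hz, ← Scheme.Hom.comp_apply m, hm1, Scheme.Hom.comp_apply]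
    obtain ⟨w, hw1, -⟩ := Scheme.Pullback.exists_preimage_pullback (f := c) (g := (O i).ι ≫ s) x ⟨z, hrz⟩
      (by rw [Scheme.Hom.comp_apply]; exact hsz.symm)
    exact ⟨i, w, hw1⟩
  · obtain ⟨q, hq⟩ := hO i
    refine ⟨i, pullback.snd c ((O i).ι ≫ s) ≫ q, ?_⟩
    change _ = pullback.fst c ((O i).ι ≫ s) ≫ c ≫ b
    rw [Category.assoc, hq]
    exact (Category.assoc _ _ _).symm.trans ((congrArg (· ≫ b) pullback.condition.symm).trans
      (Category.assoc _ _ _))

end K346.PhStep
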