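import Groth.Agent.S0591
import Groth.Agent.S2074
import Groth.Agent.S2581
import Groth.Agent.S8978
import Groth.Agent.S7468
import Groth.Agent.HTop.K346.VCover
import Groth.Agent.HTop.K346.Descend
import Groth.Agent.HTop.K346.FamDescend

/-!
# Descending standard h coverings along cofiltered limits of affine schemes (seat 346)
-/

set_option autoImplicit false
universe w w' u

open CategoryTheory CategoryTheory.Limits AlgebraicGeometry HTop TopologicalSpace

namespace K346.StdHLim

open Groth.Agent.Smoothlim.LimBase K346.FamDescend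

variable {I : Type u} [SmallCategory I] [IsCofiltered I] (D : I ⥤ Scheme.{u}) (c : Cone D) (hc : IsLimit c)

/-- A model of `f : X ⟶ c.pt` at stage `i`. -/
structure Model {X : Scheme.{u}} (f : X ⟶ c.pt) (i : I) where
  obj : Scheme.{u}
  hom : obj ⟶ D.obj i
  map : X ⟶ obj
  isPullback : IsPullback map f hom (c.π.app i)

omit [IsCofiltered I] in
/-- Moving a model to a later stage. -/
noncomputable def Model.next {X : Scheme.{u}} {f : X ⟶ c.pt} {i : I} (M : Model D c f i) {j : I} (a : j ⟶ i) :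
    Model D c f j where
  obj := pullback M.hom (D.map a)
  hom := pullback.snd M.hom (D.map a)
  map := pullback.lift M.map (f ≫ c.π.app j) (by rw [Category.assoc, c.w, M.isPullback.w])
  isPullback := by
    have h1 : IsPullback (pullback.fst M.hom (D.map a)) (pullback.snd M.hom (D.map a)) M.hom (D.map a) :=
      IsPullback.of_hasPullback _ _
    refine IsPullback.of_right (h₁₂ := pullback.fst M.hom (D.map a)) (h₂₂ := D.map a) (v₁₃ := M.hom) ?_
      (pullback.lift_snd _ _ _) h1
    rw [pullback.lift_fst, c.w]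
    exact M.isPullback

set_option backward.isDefEq.respectTransparency false in
include hc in
/-- A quasi-compact quasi-separated morphism locally of finite presentation with affine source has a model with
affine source. -/
theorem exists_model_affine [∀ (i j : I) (f : i ⟶ j), IsAffineHom (D.map f)] [∀ i, CompactSpace (D.obj i)]
    [∀ i, QuasiSeparatedSpace (D.obj i)] {X : Scheme.{u}} [IsAffine X] (f : X ⟶ c.pt)
    [LocallyOfFinitePresentation f] [QuasiCompact f] [QuasiSeparated f] :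
    ∃ (i : I) (M : Model D c f i), LocallyOfFinitePresentation M.hom ∧ IsAffine M.obj := by
  obtain ⟨i, X₀, f₀, g, _, _, _, h⟩ := Groth.Agent.S0591.result D c hc X f
  let E := pbDiag D i f₀
  let cE := pbCone i f₀ c g f h.toCommSq
  have hcE : IsLimit cE := isLimitPbCone i f₀ c hc g f h
  have hEaff : ∀ {φ ψ : Over i} (a : φ ⟶ ψ), IsAffineHom (E.map a) := fun {φ ψ} a ↦
    MorphismProperty.of_isPullback (isPullback_pbDiag_map D i f₀ a).flip inferInstance
  have hE1 : ∀ j : Over i, CompactSpace (E.obj j) := fun j ↦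
    QuasiCompact.compactSpace_of_compactSpace (pullback.snd f₀ (D.map j.hom))
  have hE2 : ∀ j : Over i, QuasiSeparatedSpace (E.obj j) := fun j ↦
    quasiSeparatedSpace_of_quasiSeparated (pullback.snd f₀ (D.map j.hom))
  have hpt : IsAffine cE.pt := inferInstanceAs (IsAffine X)
  obtain ⟨j, V, hV, hV'⟩ := Scheme.exists_isOpenCover_and_isAffine_of_finite E cE hcE
    (fun _ : Unit ↦ (⊤ : cE.pt.Opens)) (by simp [IsOpenCover]) (fun _ ↦ isAffineOpen_top _)
  have hVtop : V () = ⊤ := by
    have : ⨆ k : Unit, V k = ⊤ := hV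
    simpa using this
  have h3 : IsAffine (E.obj j) := by
    have := (hV' ()).1
    rw [hVtop] at this
    have h4 : IsAffine ((⊤ : (E.obj j).Opens) : Scheme.{u}) := this
    exact .of_isIso (E.obj j).topIso.inv
  exact ⟨j.left, Model.next D c ⟨X₀, f₀, g, h⟩ j.hom,
    inferInstanceAs (LocallyOfFinitePresentation (pullback.snd f₀ (D.map j.hom))), h3⟩

include hc in
/-- A proper surjective morphism of finite presentation to the limit has a proper surjective model. -/
theorem exists_model_proper [∀ (i j : I) (f : i ⟶ j), IsAffineHom (D.map f)] [∀ i, CompactSpace (D.obj i)]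
    [∀ i, QuasiSeparatedSpace (D.obj i)] {X : Scheme.{u}} (f : X ⟶ c.pt)
    [LocallyOfFinitePresentation f] [IsProper f] [Surjective f] :
    ∃ (i : I) (M : Model D c f i), LocallyOfFinitePresentation M.hom ∧ IsProper M.hom ∧ Surjective M.hom := by
  obtain ⟨i, X₀, f₀, g, _, _, _, h⟩ := Groth.Agent.S0591.result D c hc X f
  have : CompactSpace X₀ := QuasiCompact.compactSpace_of_compactSpace f₀
  have : QuasiSeparatedSpace X₀ := quasiSeparatedSpace_of_quasiSeparated f₀
  obtain ⟨i₁, φ₁, X₁, Y₁, f₁, g₁, pY₁, pX₁, hA₁, hB₁, _⟩ := Groth.Agent.S2074.result D c hc i f₀ (𝟙 _) f (𝟙 c.pt)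
    (c.π.app i) g (IsPullback.of_vert_isIso ⟨by simp⟩) h
  have : LocallyOfFinitePresentation (f₀ ≫ 𝟙 _) := by rw [Category.comp_id]; infer_instance
  have : QuasiCompact (f₀ ≫ 𝟙 _) := by rw [Category.comp_id]; infer_instance
  have : QuasiSeparated (f₀ ≫ 𝟙 _) := by rw [Category.comp_id]; infer_instance
  obtain ⟨i₂, φ₂, X₂, Y₂, f₂, g₂, pY₂, pX₂, hA₂, hB₂, _⟩ := Groth.Agent.S2581.result D c hc i f₀ (𝟙 _) f (𝟙 c.pt)
    (c.π.app i) g (IsPullback.of_vert_isIso ⟨by simp⟩) h
  have e₁ : IsIso g₁ := by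
    have h1 : MorphismProperty.isomorphisms Scheme.{u} g₁ :=
      MorphismProperty.of_isPullback hA₁ (MorphismProperty.isomorphisms.infer_property (𝟙 _))
    exact h1
  have e₂ : IsIso g₂ := by
    have h1 : MorphismProperty.isomorphisms Scheme.{u} g₂ :=
      MorphismProperty.of_isPullback hA₂ (MorphismProperty.isomorphisms.infer_property (𝟙 _))
    exact h1
  have hP₁ : IsPullback pX₁ (f₁ ≫ g₁) f₀ (D.map φ₁) := by simpa using hB₁.paste_vert hA₁
  have hP₂ : IsPullback pX₂ (f₂ ≫ g₂) f₀ (D.map φ₂) := by simpa using hB₂.paste_vert hA₂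
  obtain ⟨j, a, b, hab⟩ := IsCofiltered.cospan φ₁ φ₂
  have key : ∀ {k : I} (ψ : k ⟶ i) (r : j ⟶ k) {X' : Scheme.{u}} (p : X' ⟶ X₀) (q : X' ⟶ D.obj k)
      (_ : IsPullback p q f₀ (D.map ψ)) {P : MorphismProperty Scheme.{u}} (_ : P.IsStableUnderBaseChange)
      (_ : P q), P (pullback.snd f₀ (D.map (r ≫ ψ))) := by
    intro k ψ r X' p q hpq P hP hq
    have h1 : IsPullback (pullback.fst f₀ (D.map (r ≫ ψ))) (pullback.snd f₀ (D.map (r ≫ ψ))) f₀
      (D.map r ≫ D.map ψ) := by
      rw [← D.map_comp]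
      exact IsPullback.of_hasPullback _ _
    have h2 := IsPullback.of_right (h₁₁ := hpq.lift (pullback.fst f₀ (D.map (r ≫ ψ)))
      (pullback.snd f₀ (D.map (r ≫ ψ)) ≫ D.map r) (by
        rw [pullback.condition, D.map_comp, Category.assoc])) (h₁₂ := p) (h₂₂ := D.map ψ) (v₁₃ := f₀)
        (h₂₁ := D.map r) (v₁₁ := pullback.snd f₀ (D.map (r ≫ ψ))) (v₁₂ := q) (by
          rw [hpq.lift_fst]
          exact h1) (hpq.lift_snd _ _ _) hpq
    exact P.of_isPullback h2 hq
  refine ⟨j, Model.next D c ⟨X₀, f₀, g, h⟩ (a ≫ φ₁),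
    inferInstanceAs (LocallyOfFinitePresentation (pullback.snd f₀ (D.map (a ≫ φ₁)))), ?_, ?_⟩
  · exact key φ₁ a pX₁ (f₁ ≫ g₁) hP₁ (P := @IsProper) inferInstance inferInstance
  · have : Surjective (pullback.snd f₀ (D.map (b ≫ φ₂))) :=
      key φ₂ b pX₂ (f₂ ≫ g₂) hP₂ (P := @Surjective) inferInstance inferInstance
    rw [← hab] at this
    exact this

set_option backward.isDefEq.respectTransparency false in
include hc in
/-- Descent of standard h coverings along a cofiltered limit of affine schemes. -/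
theorem main [∀ i, IsAffine (D.obj i)] [IsAffine c.pt] (V : PreZeroHypercover.{w} c.pt) (hV : IsStandardH V) :
    ∃ (i : I) (W : PreZeroHypercover.{w} (D.obj i)), IsStandardH W ∧
      ∃ (σ : V.I₀ ≃ W.I₀) (e : ∀ j, V.X j ≅ pullback (c.π.app i) (W.f (σ j))),
        ∀ j, (e j).hom ≫ pullback.fst (c.π.app i) (W.f (σ j)) = V.f j := by
  have := hV.finite_index
  have hfp := hV.finitePresentation
  have haff := hV.isAffine_obj
  obtain ⟨Y, g, n, U, hg, hg', hg'', hU, hU', hUV⟩ := Groth.Agent.S8978.result V ⟨hfp, hV.isVCover⟩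
  choose m h hh using hUV
  have hm (j : V.I₀) := exists_model_affine D c hc (V.f j)
  choose i₁ M₁ hM₁ hM₁' using hm
  obtain ⟨i₀, M₀, hM₀, hM₀', hM₀''⟩ := exists_model_proper D c hc g
  -- a common stage
  classical
  have := Fintype.ofFinite V.I₀
  obtain ⟨i₂, hi₂⟩ := IsCofiltered.inf_objs_exists (insert i₀ (Finset.univ.image i₁))
  obtain ⟨b₀⟩ : Nonempty (i₂ ⟶ i₀) := hi₂ (by simp)
  have hb (j : V.I₀) : Nonempty (i₂ ⟶ i₁ j) := hi₂ (by simp)
  let b (j : V.I₀) : i₂ ⟶ i₁ j := (hb j).some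
  let N (j : V.I₀) := (M₁ j).next D c (b j)
  let N₀ := M₀.next D c b₀
  have : LocallyOfFinitePresentation N₀.hom :=
    inferInstanceAs (LocallyOfFinitePresentation (pullback.snd M₀.hom (D.map b₀)))
  have : IsProper N₀.hom := inferInstanceAs (IsProper (pullback.snd M₀.hom (D.map b₀)))
  have : Surjective N₀.hom := inferInstanceAs (Surjective (pullback.snd M₀.hom (D.map b₀)))
  have hN (j : V.I₀) : LocallyOfFinitePresentation (N j).hom :=
    inferInstanceAs (LocallyOfFinitePresentation (pullback.snd (M₁ j).hom (D.map (b j))))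
  have hN' (j : V.I₀) : IsAffine (N j).obj :=
    inferInstanceAs (IsAffine (pullback (M₁ j).hom (D.map (b j))))
  let F : PreZeroHypercover.{w} (D.obj i₂) := ⟨V.I₀, fun j ↦ (N j).obj, fun j ↦ (N j).hom⟩
  -- the base changed diagram
  let E := pbDiag D i₂ N₀.hom
  let cE := pbCone i₂ N₀.hom c N₀.map g N₀.isPullback.toCommSq
  have hcE : IsLimit cE := isLimitPbCone i₂ N₀.hom c hc N₀.map g N₀.isPullback
  have hEaff : ∀ {φ ψ : Over i₂} (a : φ ⟶ ψ), IsAffineHom (E.map a) := fun {φ ψ} a ↦
    MorphismProperty.of_isPullback (isPullback_pbDiag_map D i₂ N₀.hom a).flip inferInstance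
  have hE1 : ∀ j : Over i₂, CompactSpace (E.obj j) := fun j ↦
    QuasiCompact.compactSpace_of_compactSpace (pullback.snd N₀.hom (D.map j.hom))
  have hE2 : ∀ j : Over i₂, QuasiSeparatedSpace (E.obj j) := fun j ↦
    quasiSeparatedSpace_of_quasiSeparated (pullback.snd N₀.hom (D.map j.hom))
  let tE : E ⟶ (Functor.const (Over i₂)).obj (D.obj i₂) :=
    { app := fun j ↦ pullback.snd N₀.hom (D.map j.hom) ≫ D.map j.hom
      naturality := fun φ ψ a ↦ by
        have h1 : D.map a.left ≫ D.map ψ.hom = D.map φ.hom := by rw [← D.map_comp, Over.w a]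
        have h2 : E.map a ≫ pullback.snd N₀.hom (D.map ψ.hom) =
          pullback.snd N₀.hom (D.map φ.hom) ≫ D.map a.left := pullback.lift_snd _ _ _
        rw [← Category.assoc, h2, Category.assoc, h1]
        exact (Category.comp_id _).symm }
  obtain ⟨j, V', hV', hV'', h''⟩ := K346.Descend.exists_descend E tE cE hcE F hN (J := Fin n) U hU' hU
    (g ≫ c.π.app i₂) (fun j ↦ by
      have h1 : cE.π.app j ≫ pullback.snd N₀.hom (D.map j.hom) = g ≫ c.π.app j.left := pullback.lift_snd _ _ _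
      change cE.π.app j ≫ pullback.snd N₀.hom (D.map j.hom) ≫ D.map j.hom = _
      rw [reassoc_of% h1, c.w]) m (fun k ↦ h k ≫ (N (m k)).map) (fun k ↦ by
      change (h k ≫ (N (m k)).map) ≫ (N (m k)).hom = _
      rw [Category.assoc, (N (m k)).isPullback.w, ← Category.assoc, hh, Category.assoc])
  let N' (k : V.I₀) := (N k).next D c j.hom
  refine ⟨j.left, ⟨V.I₀, fun k ↦ (N' k).obj, fun k ↦ (N' k).hom⟩, ⟨inferInstance, hV.finite_index, fun k ↦ ?_,
    fun k ↦ ?_, ?_⟩, Equiv.refl _, fun k ↦ (N' k).isPullback.flip.isoPullback, fun k ↦ ?_⟩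
  · exact inferInstanceAs (IsAffine (pullback (N k).hom (D.map j.hom)))
  · exact inferInstanceAs (LocallyOfFinitePresentation (pullback.snd (N k).hom (D.map j.hom)))
  · rw [K346.VCover.isVCover_iff_of_isAffine]
    let G : PreZeroHypercover.{0} (D.obj j.left) :=
      ⟨Fin n, fun k ↦ V' k, fun k ↦ (V' k).ι ≫ pullback.snd N₀.hom (D.map j.hom)⟩
    have hG : IsStandardPh G := by
      refine ⟨inferInstance, inferInstanceAs (Finite (Fin n)), hV'', ?_⟩
      refine ⟨E.obj j, pullback.snd N₀.hom (D.map j.hom), fun k ↦ (V' k).ι,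
        inferInstance, inferInstance, fun k ↦ inferInstance, fun k ↦ rfl, fun x ↦ ?_⟩
      obtain ⟨k, hk⟩ := hV'.exists_mem x
      exact ⟨k, ⟨x, hk⟩, rfl⟩
    refine ⟨G, Groth.Agent.S7468.result G hG, fun k ↦ ?_⟩
    obtain ⟨k', hk'⟩ := h'' k
    refine ⟨m k, pullback.lift k' ((V' k).ι ≫ pullback.snd N₀.hom (D.map j.hom)) (hk'.trans ?_), ?_⟩
    · rw [Category.assoc]
    · exact (pullback.lift_snd _ _ _).trans (Category.comp_id _).symm
  · exact IsPullback.isoPullback_hom_fst _

end K346.StdHLim
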