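import Groth.Agent.HTop.K346.PhLfp
import Groth.Agent.Ega43.DvrScheme
import Groth.Prelude.Def_SGA1
import Mathlib.RingTheory.PowerSeries.Inverse
import Mathlib.RingTheory.PowerSeries.NoZeroDivisors

/-!
# Universally submersive families over Noetherian schemes (seat 346)
-/

set_option autoImplicit false
universe w w' u

open CategoryTheory CategoryTheory.Limits AlgebraicGeometry HTop TensorProduct

namespace K346.Subm

open K346.ValLift K346.VCover K346.VStable K346.PhBasic K346.PhCrit K346.PhLocal K346.PhMain K345.PhRef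
open K346.PhStep K346.PhChain K346.PhLfp

/-- After every base change, a subset is closed as soon as its inverse images in the members are closed. -/
def SubmFam {T : Scheme.{u}} (E : PreZeroHypercover.{w} T) : Prop :=
  ∀ (T' : Scheme.{u}) (g : T' ⟶ T) (Z : Set T'),
    (∀ i, IsClosed (pullback.fst g (E.f i) ⁻¹' Z)) → IsClosed Z

variable {T : Scheme.{u}}

/-- Inverse images under jointly surjective open immersions detect closed sets. -/
theorem isClosed_of_openCover {X : Scheme.{u}} {J : Type w} (Y : J → Scheme.{u}) (f : ∀ j, Y j ⟶ X)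
    (hf : ∀ j, IsOpenImmersion (f j)) (hcov : ∀ x : X, ∃ j, x ∈ Set.range (f j)) (Z : Set X)
    (h : ∀ j, IsClosed (f j ⁻¹' Z)) : IsClosed Z := by
  rw [← isOpen_compl_iff, isOpen_iff_mem_nhds]
  intro x hx
  obtain ⟨j, y, rfl⟩ := hcov x
  have h1 : IsOpen (f j '' (f j ⁻¹' Zᶜ)) := (f j).isOpenEmbedding.isOpenMap _ (h j).isOpen_compl
  exact Filter.mem_of_superset (h1.mem_nhds ⟨y, hx, rfl⟩) (Set.image_preimage_subset _ _)

theorem isClosed_preimage_of_iso {X Y : Scheme.{u}} (e : X ≅ Y) (Z : Set Y) (h : IsClosed (e.hom ⁻¹' Z)) :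
    IsClosed Z := by
  refine isClosed_of_openCover (J := Unit) (fun _ ↦ X) (fun _ ↦ e.hom) (fun _ ↦ inferInstance) (fun x ↦ ?_) Z
    (fun _ ↦ h)
  exact ⟨(), e.inv x, by rw [← Scheme.Hom.comp_apply, Iso.inv_hom_id]; rfl⟩

theorem submFam_of_univSubmersive (E : PreZeroHypercover.{u} T) (h : SGA1.UnivSubmersive (Sigma.desc E.f)) :
    SubmFam E := by
  intro T' g Z hZ
  have h1 : Topology.IsQuotientMap (pullback.fst g (Sigma.desc E.f)) :=
    h _ _ _ (IsPullback.of_hasPullback g (Sigma.desc E.f))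
  rw [← h1.isClosed_preimage]
  let m : ∀ i, pullback g (E.f i) ⟶ pullback g (Sigma.desc E.f) := fun i ↦
    pullback.map g (E.f i) g (Sigma.desc E.f) (𝟙 _) (Sigma.ι E.X i) (𝟙 _) (by simp) (by simp)
  have hm : ∀ i, IsOpenImmersion (m i) := fun i ↦ by
    dsimp only [m]
    infer_instance
  have hmf : ∀ i, m i ≫ pullback.fst g (Sigma.desc E.f) = pullback.fst g (E.f i) := fun i ↦
    (pullback.lift_fst _ _ _).trans (Category.comp_id _)
  refine isClosed_of_openCover _ m hm (fun x ↦ ?_) _ fun i ↦ ?_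
  · obtain ⟨i, y, hy⟩ := (sigmaOpenCover E.X).exists_eq (pullback.snd g (Sigma.desc E.f) x)
    refine ⟨i, ?_⟩
    dsimp only [m]
    rw [Scheme.Pullback.range_map]
    exact ⟨⟨pullback.fst g (Sigma.desc E.f) x, rfl⟩, ⟨y, hy⟩⟩
  · have := hZ i
    rw [← hmf i] at this
    rw [← Set.preimage_comp]
    convert this using 2
    ext x
    simp

theorem SubmFam.of_isPullback {T' : Scheme.{u}} (g : T' ⟶ T) {E : PreZeroHypercover.{w} T}
    (hE : SubmFam E) (Y : E.I₀ → Scheme.{u}) (p : ∀ i, Y i ⟶ T') (q : ∀ i, Y i ⟶ E.X i)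
    (h : ∀ i, IsPullback (q i) (p i) (E.f i) g) : SubmFam (T := T') ⟨E.I₀, Y, p⟩ := by
  intro T'' k Z hZ
  refine hE T'' (k ≫ g) Z fun i ↦ ?_
  have sq : IsPullback (pullback.snd k (p i) ≫ q i) (pullback.fst k (p i)) (E.f i) (k ≫ g) :=
    (IsPullback.of_hasPullback k (p i)).flip.paste_horiz (h i)
  let e : pullback k (p i) ≅ pullback (k ≫ g) (E.f i) := (sq.flip).isoPullback
  have he : e.hom ≫ pullback.fst (k ≫ g) (E.f i) = pullback.fst k (p i) := sq.flip.isoPullback_hom_fst
  have h1 := hZ i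
  refine isClosed_preimage_of_iso e _ ?_
  rw [← Set.preimage_comp]
  convert h1 using 2
  change (fun x ↦ _) = _
  ext x
  change (pullback.fst (k ≫ g) (E.f i)) (e.hom x) = pullback.fst k (p i) x
  rw [← he, Scheme.Hom.comp_apply]

theorem SubmFam.pullback₁ {T' : Scheme.{u}} (g : T' ⟶ T) {E : PreZeroHypercover.{w} T}
    (hE : SubmFam E) : SubmFam (E.pullback₁ g) :=
  SubmFam.of_isPullback g hE _ _ (fun i ↦ pullback.snd g (E.f i)) fun i ↦ (IsPullback.of_hasPullback g (E.f i)).flip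

theorem SubmFam.pieces {E : PreZeroHypercover.{w} T} (hE : SubmFam E) {J : Type w'}
    (a : J → Σ i : E.I₀, (E.X i).Opens)
    (ha : ∀ (i : E.I₀) (x : E.X i), ∃ (k : J) (U : (E.X i).Opens), a k = ⟨i, U⟩ ∧ x ∈ U) :
    SubmFam (pieces E a) := by
  intro T' g Z hZ
  refine hE T' g Z fun i ↦ ?_
  -- the open subsets of `pullback g (E.f i)`
  let J' := {p : J × (E.X i).Opens // a p.1 = ⟨i, p.2⟩}
  refine isClosed_of_openCover (J := J') (fun p ↦ pullback g (p.1.2.ι ≫ E.f i))
    (fun p ↦ pullback.map g (p.1.2.ι ≫ E.f i) g (E.f i) (𝟙 _) p.1.2.ι (𝟙 _) (by simp) (by simp))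
    (fun p ↦ inferInstance) (fun x ↦ ?_) _ fun p ↦ ?_
  · obtain ⟨k, U, hk, hx⟩ := ha i (pullback.snd g (E.f i) x)
    refine ⟨⟨⟨k, U⟩, hk⟩, ?_⟩
    rw [Scheme.Pullback.range_map]
    exact ⟨⟨pullback.fst g (E.f i) x, rfl⟩, ⟨⟨_, hx⟩, rfl⟩⟩
  · obtain ⟨e, he⟩ := pieces_f_of_eq E a p.2
    have h1 := hZ p.1.1
    let e' : pullback g (p.1.2.ι ≫ E.f i) ⟶ pullback g ((K346.VCover.pieces E a).f p.1.1) :=
      pullback.map _ _ _ _ (𝟙 _) e.hom (𝟙 _) (by simp) (by rw [he]; simp)
    have h2 : e' ≫ pullback.fst g ((K346.VCover.pieces E a).f p.1.1) = pullback.fst g (p.1.2.ι ≫ E.f i) :=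
      (pullback.lift_fst _ _ _).trans (Category.comp_id _)
    have h3 : IsClosed (e' ⁻¹' (pullback.fst g ((K346.VCover.pieces E a).f p.1.1) ⁻¹' Z)) :=
      h1.preimage e'.continuous
    convert h3 using 1
    ext x
    simp only [Set.mem_preimage]
    rw [← Scheme.Hom.comp_apply, ← Scheme.Hom.comp_apply, h2]
    have h4 : pullback.map g (p.1.2.ι ≫ E.f i) g (E.f i) (𝟙 _) p.1.2.ι (𝟙 _) (by simp) (by simp) ≫
        pullback.fst g (E.f i) = pullback.fst g (p.1.2.ι ≫ E.f i) :=
      (pullback.lift_fst _ _ _).trans (Category.comp_id _)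
    rw [h4]

/-- Points of a family in the closure of the generic fibre over a discrete valuation ring. -/
theorem SubmFam.exists_specialFibre {E : PreZeroHypercover.{w} T} (hE : SubmFam E) {R : Type u} [CommRing R]
    [IsDomain R] [IsDiscreteValuationRing R] (g : Spec (CommRingCat.of R) ⟶ T) :
    ∃ (i : E.I₀) (y : ↥(pullback g (E.f i))), pullback.fst g (E.f i) y = IsLocalRing.closedPoint R ∧
      y ∈ closure (pullback.fst g (E.f i) ⁻¹' {(⊥ : PrimeSpectrum R)}) := by
  by_contra! hcon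
  have hpts : ∀ x : PrimeSpectrum R, x = ⊥ ∨ x = IsLocalRing.closedPoint R := by
    intro x
    by_cases hx : x.asIdeal = ⊥
    · exact Or.inl (PrimeSpectrum.ext hx)
    · right
      apply PrimeSpectrum.ext
      exact IsLocalRing.eq_maximalIdeal (x.isPrime.isMaximal hx)
  have h1 : IsClosed ({(⊥ : PrimeSpectrum R)} : Set (PrimeSpectrum R)) := by
    refine hE _ g ({(⊥ : PrimeSpectrum R)} : Set (PrimeSpectrum R)) fun i ↦ ?_
    rw [← closure_subset_iff_isClosed]
    intro y hy
    rcases hpts (pullback.fst g (E.f i) y) with h | h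
    · exact h
    · exact absurd hy (hcon i y h)
  have h2 : (⊥ : PrimeSpectrum R) = IsLocalRing.closedPoint R := by
    have h3 : (⊥ : PrimeSpectrum R) ⤳ IsLocalRing.closedPoint R :=
      (PrimeSpectrum.le_iff_specializes _ _).1 bot_le
    exact (Set.mem_singleton_iff.1 (h3.mem_closed h1 rfl)).symm
  have h3 : (⊥ : Ideal R) = IsLocalRing.maximalIdeal R := congrArg PrimeSpectrum.asIdeal h2
  exact IsDiscreteValuationRing.not_a_field R h3.symm

/-- Specializations in a locally Noetherian scheme (possibly trivial ones) are realized by discrete valuation rings. -/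
theorem exists_dvr_specializes {Y : Scheme.{u}} {y' y : Y} [IsNoetherianRing (Y.presheaf.stalk y)] (h : y' ⤳ y) :
    ∃ (R : Type u) (_ : CommRing R) (_ : IsDomain R) (_ : IsDiscreteValuationRing R)
      (g : Spec (CommRingCat.of R) ⟶ Y), g (IsLocalRing.closedPoint R) = y ∧ g (⊥ : PrimeSpectrum R) = y' := by
  by_cases hne : y' = y
  · subst hne
    have h1 : ∀ (K : Type u) [Field K], IsDomain (PowerSeries K) ∧ IsDiscreteValuationRing (PowerSeries K) :=
      fun K _ ↦ ⟨inferInstance, inferInstance⟩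
    refine ⟨PowerSeries (Y.residueField y'), inferInstance, (h1 _).1, (h1 _).2,
      Spec.map (CommRingCat.ofHom (PowerSeries.C (R := Y.residueField y'))) ≫ Y.fromSpecResidueField y', ?_, ?_⟩
    · rw [Scheme.Hom.comp_apply]
      exact Scheme.fromSpecResidueField_apply y' _
    · rw [Scheme.Hom.comp_apply]
      exact Scheme.fromSpecResidueField_apply y' _
  · obtain ⟨R, i1, i2, i3, i4, i5, g, hg1, hg2⟩ :=
      Groth.Agent.Ega43.DvrScheme.exists_dvr_of_specializes h hne (Y.residueField y') (𝟙 _)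
        (RingHom.FiniteType.essFiniteType (RingHom.FiniteType.id _))
    refine ⟨R, i1, i2, i3, g, hg1, ?_⟩
    have h1 : Spec.map (CommRingCat.ofHom (algebraMap R (Y.residueField y')))
        (IsLocalRing.closedPoint (Y.residueField y')) = (⊥ : PrimeSpectrum R) := by
      apply PrimeSpectrum.ext
      change Ideal.comap (algebraMap R (Y.residueField y')) (IsLocalRing.maximalIdeal (Y.residueField y')) = ⊥
      rw [IsLocalRing.maximalIdeal_eq_bot, ← RingHom.ker_eq_comap_bot]
      exact (RingHom.injective_iff_ker_eq_bot _).1 (IsFractionRing.injective R (Y.residueField y'))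
    rw [← h1, ← Scheme.Hom.comp_apply, hg2, Scheme.Hom.comp_apply]
    exact Scheme.fromSpecResidueField_apply y' _

theorem closureLift_of_submFam [IsLocallyNoetherian T] {E : PreZeroHypercover.{w} T} (hE : SubmFam E)
    (U : T.Opens) : ClosureLift E U := by
  intro S' b hb x hx
  have : IsLocallyNoetherian S' := LocallyOfFiniteType.isLocallyNoetherian b
  obtain ⟨u, hu⟩ := Groth.Agent.S2121.exists_specializes (b ⁻¹ᵁ U).ι x (by
    rw [Scheme.Opens.range_ι]; exact hx)
  obtain ⟨R, _, _, _, g, hg1, hg2⟩ := exists_dvr_specializes hu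
  obtain ⟨i, y, hy1, hy2⟩ := hE.exists_specialFibre (g ≫ b)
  let m : pullback (g ≫ b) (E.f i) ⟶ pullback b (E.f i) :=
    pullback.map (g ≫ b) (E.f i) b (E.f i) g (𝟙 _) (𝟙 _) (by simp) (by simp)
  have hm : m ≫ pullback.fst b (E.f i) = pullback.fst (g ≫ b) (E.f i) ≫ g := pullback.lift_fst _ _ _
  refine ⟨i, m y, ?_, ?_⟩
  · rw [← Scheme.Hom.comp_apply, hm, Scheme.Hom.comp_apply, hy1, hg1]
  · refine map_mem_closure m.continuous hy2 fun z hz ↦ ?_
    change pullback.fst b (E.f i) (m z) ∈ b ⁻¹ᵁ U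
    rw [← Scheme.Hom.comp_apply, hm, Scheme.Hom.comp_apply, show pullback.fst (g ≫ b) (E.f i) z = _ from hz, hg2]
    exact u.2

theorem CL_of_submFam (A : Type u) [CommRing A] [IsNoetherianRing A] {I : Type} (B : I → Type u)
    [∀ i, CommRing (B i)] [∀ i, Algebra A (B i)] (h : SubmFam (fam A B)) : CL A B := by
  intro 𝔞 J hJ
  have : IsNoetherianRing (CommRingCat.of (A ⧸ 𝔞)) := inferInstanceAs (IsNoetherianRing (A ⧸ 𝔞))
  refine closureLift_of_submFam ?_ _
  exact SubmFam.of_isPullback (Spec.map (CommRingCat.ofHom (algebraMap A (A ⧸ 𝔞)))) h _ _ _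
    (isPullback_fam A B (A ⧸ 𝔞))

/-- A finite universally submersive family of morphisms of finite type between affine Noetherian schemes is a ph
covering. -/
theorem isPhCover_of_Spec {A : CommRingCat.{u}} [IsNoetherianRing A] {I : Type} [Finite I]
    (R : I → CommRingCat.{u}) (g : ∀ i, Spec (R i) ⟶ Spec A) (hg : ∀ i, LocallyOfFiniteType (g i))
    (h : SubmFam (T := Spec A) ⟨I, fun i ↦ Spec (R i), g⟩) :
    IsPhCover (T := Spec A) ⟨I, fun i ↦ Spec (R i), g⟩ := by
  let φ : ∀ i, A ⟶ R i := fun i ↦ Spec.preimage (g i)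
  have hφ : ∀ i, Spec.map (φ i) = g i := fun i ↦ Spec.map_preimage (g i)
  let inst : ∀ i, Algebra A (R i) := fun i ↦ (φ i).hom.toAlgebra
  have hfp : ∀ i, Algebra.FinitePresentation A (R i) := by
    intro i
    have h0 := hg i
    have h1 : LocallyOfFinitePresentation (g i) := LocallyOfFinitePresentation.iff_locallyOfFiniteType.2 h0
    rw [← hφ i, HasRingHomProperty.Spec_iff (P := @LocallyOfFinitePresentation)] at h1
    exact h1
  have heq : fam A (fun i ↦ (R i : Type u)) = ⟨I, fun i ↦ Spec (R i), g⟩ := by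
    have : (fun i ↦ Spec.map (φ i)) = g := funext hφ
    rw [← this]
    rfl
  have h2 : SubmFam (fam A (fun i ↦ (R i : Type u))) := by rw [heq]; exact h
  have h3 := isPhCover_fam A (fun i ↦ (R i : Type u)) (CL_of_submFam _ _ h2)
  rw [heq] at h3
  exact h3

theorem isPhRef_of_submFam_Spec {A : CommRingCat.{u}} [IsNoetherianRing A] (E : PreZeroHypercover.{w} (Spec A))
    [Finite E.I₀] [∀ i, CompactSpace (E.X i)]
    (hE : ∀ i, LocallyOfFiniteType (E.f i)) (hV : SubmFam E) : IsPhRef (𝟙 _) E := by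
  obtain ⟨n, a, ha, hcov⟩ := exists_fin_affineOpens E.X
  have h1 := hV.pieces a hcov
  let R : Fin n → CommRingCat.{u} := fun k ↦ Γ(_, (a k).2)
  let g : ∀ k, Spec (R k) ⟶ Spec A := fun k ↦ (ha k).fromSpec ≫ E.f _
  have hg : ∀ k, LocallyOfFiniteType (g k) := fun k ↦ by
    have := hE (a k).1
    exact inferInstanceAs (LocallyOfFiniteType ((ha k).fromSpec ≫ E.f _))
  have h2 : SubmFam (T := Spec A) ⟨Fin n, fun k ↦ Spec (R k), g⟩ := by
    refine SubmFam.of_isPullback (𝟙 _) h1 (fun k ↦ Spec (R k)) g (fun k ↦ (ha k).isoSpec.inv) fun k ↦ ?_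
    refine IsPullback.of_horiz_isIso ⟨?_⟩
    change (ha k).isoSpec.inv ≫ ((a k).2.ι ≫ E.f (a k).1) = g k ≫ 𝟙 _
    rw [← Category.assoc, IsAffineOpen.isoSpec_inv_ι, Category.comp_id]
  have h3 := isPhCover_of_Spec R g hg h2
  have h4 := K345.PhStd.isPhRef_of_isPhCover ((K345.PhStd.isPhCover_iff _).1 h3).2 (𝟙 (Spec A))
  have h5 := h4.postcomp (𝟙 _) (E' := E) fun k ↦ ⟨(a k).1, (ha k).fromSpec, (Category.comp_id _).symm⟩
  rwa [Category.comp_id] at h5

/-- A finite universally submersive family of finite type over a locally Noetherian scheme is a ph covering. -/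
theorem isPhCover_of_submFam [IsLocallyNoetherian T] (E : PreZeroHypercover.{w} T) [Finite E.I₀]
    (hE : ∀ i, LocallyOfFiniteType (E.f i)) (hqc : ∀ i, QuasiCompact (E.f i)) (hV : SubmFam E) :
    IsPhCover E := by
  rw [K345.PhStd.isPhCover_iff]
  refine ⟨hE, fun U ↦ ?_⟩
  let r : Spec Γ(T, (U : T.Opens)) ⟶ T := U.2.fromSpec
  have : IsNoetherianRing Γ(T, (U : T.Opens)) := IsLocallyNoetherian.component_noetherian U
  have hfin : Finite (E.pullback₁ r).I₀ := inferInstanceAs (Finite E.I₀)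
  have hcomp : ∀ i : E.I₀, CompactSpace ↥(pullback r (E.f i)) := fun i ↦ by
    have := hqc i
    have : QuasiCompact (pullback.fst r (E.f i)) := MorphismProperty.pullback_fst _ _ inferInstance
    exact QuasiCompact.compactSpace_of_compactSpace (pullback.fst r (E.f i))
  have hcomp' : ∀ i, CompactSpace ((E.pullback₁ r).X i) := hcomp
  have h1 : IsPhRef (𝟙 _) (E.pullback₁ r) := by
    refine isPhRef_of_submFam_Spec _ (fun i ↦ ?_) (hV.pullback₁ r)
    have := hE i
    exact inferInstanceAs (LocallyOfFiniteType (pullback.fst r (E.f i)))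
  have h2 := h1.postcomp r (E' := E) fun i ↦ ⟨i, pullback.snd r (E.f i), pullback.condition.symm⟩
  have h3 := h2.comp_left U.2.isoSpec.hom
  have h4 : U.2.isoSpec.hom ≫ (𝟙 _ ≫ r) = (U : T.Opens).ι := by
    rw [Category.id_comp, IsAffineOpen.isoSpec_hom]
    exact IsAffineOpen.toSpecΓ_fromSpec _
  rwa [h4] at h3

end K346.Subm
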